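import Mathlib
import Cfsg.Agent.H50.AmDefs

/-! S2262 piece AM-S34 (helper50's project): a `σ`-real `3 × 3` matrix over the field with four
elements has a scalar power `g ^ N` with `1 ≤ N ≤ 10` (in fact `N ∈ {3, 4, 6}`). -/

set_option autoImplicit false

universe u

namespace Cfsg.Agent.H40.Am

open Matrix Cfsg.Agent.H50.Am

/-- the coefficient of `X` in the characteristic polynomial of a `3 × 3` matrix. -/
def s34B {R : Type u} [CommRing R] (g : Matrix (Fin 3) (Fin 3) R) : R :=
  g 0 0 * g 1 1 - g 0 1 * g 1 0 + g 0 0 * g 2 2 - g 0 2 * g 2 0 + g 1 1 * g 2 2 - g 1 2 * g 2 1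

/-- explicit Cayley–Hamilton for `3 × 3` matrices. -/
theorem s34_ch {R : Type u} [CommRing R] (g : Matrix (Fin 3) (Fin 3) R) :
    g ^ 3 = g.trace • g ^ 2 - s34B g • g + g.det • (1 : Matrix (Fin 3) (Fin 3) R) := by
  ext i j
  fin_cases i <;> fin_cases j <;>
    simp [pow_succ, Matrix.mul_apply, Fin.sum_univ_three, Matrix.trace_fin_three,
      Matrix.det_fin_three, s34B] <;> ring

theorem s34_tr_sq {R : Type u} [CommRing R] (g : Matrix (Fin 3) (Fin 3) R) :
    (g ^ 2).trace = g.trace ^ 2 - 2 * s34B g := by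
  simp [pow_two, Matrix.trace_fin_three, Matrix.mul_apply, Fin.sum_univ_three, s34B]
  ring

theorem s34_b_eq {R : Type u} [CommRing R] (g h : Matrix (Fin 3) (Fin 3) R) (hgh : g * h = 1) :
    s34B g = g.det * h.trace := by
  have e1 : g ^ 2 = g.trace • g - s34B g • (1 : Matrix (Fin 3) (Fin 3) R) + g.det • h := by
    calc g ^ 2 = g ^ 3 * h := by
          have e0 : g ^ 3 = g ^ 2 * g := pow_succ g 2
          rw [e0, mul_assoc, hgh, mul_one]
      _ = (g.trace • g ^ 2 - s34B g • g + g.det • (1 : Matrix (Fin 3) (Fin 3) R)) * h := by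
          rw [← s34_ch g]
      _ = g.trace • g - s34B g • (1 : Matrix (Fin 3) (Fin 3) R) + g.det • h := by
          rw [add_mul, sub_mul, smul_mul_assoc, smul_mul_assoc, smul_mul_assoc, one_mul, hgh,
            pow_two, mul_assoc, hgh, mul_one]
  have e2 := congrArg Matrix.trace e1
  rw [s34_tr_sq, Matrix.trace_add, Matrix.trace_sub, Matrix.trace_smul, Matrix.trace_smul,
    Matrix.trace_smul, Matrix.trace_one, Fintype.card_fin] at e2
  simp only [smul_eq_mul] at e2
  push_cast at e2
  linear_combination e2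

theorem s34_red {R : Type u} [CommRing R] (g : Matrix (Fin 3) (Fin 3) R) {A B C : R}
    (hg : g ^ 3 = A • g ^ 2 + B • g + C • (1 : Matrix (Fin 3) (Fin 3) R)) (x y z : R) :
    g * (x • g ^ 2 + y • g + z • (1 : Matrix (Fin 3) (Fin 3) R)) =
      (x * A + y) • g ^ 2 + (x * B + z) • g + (x * C) • (1 : Matrix (Fin 3) (Fin 3) R) := by
  have e3 : g * g ^ 2 = g ^ 3 := (pow_succ' g 2).symm
  have e2 : g * g = g ^ 2 := (pow_two g).symm
  rw [mul_add, mul_add, mul_smul_comm, mul_smul_comm, mul_smul_comm, mul_one, e3, e2, hg]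
  module

theorem s34_frob {F : Type u} [Field F] [Fintype F] (hcard : Fintype.card F = 4)
    (h2 : (2 : F) = 0) (σ : F ≃+* F) (hσ : ∃ x, σ x ≠ x) (x : F) : σ x = x ^ 2 := by
  have h4 : ∀ y : F, y ^ 4 = y := by
    intro y
    have := FiniteField.pow_card y
    rwa [hcard] at this
  have hy : ∀ y : F, y ^ 2 + y = 0 ∨ y ^ 2 + y = 1 := by
    intro y
    have e : (y ^ 2 + y) * (y ^ 2 + y - 1) = 0 := by
      linear_combination h4 y + y ^ 3 * h2
    rcases mul_eq_zero.mp e with h | h
    · exact Or.inl h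
    · exact Or.inr (by linear_combination h)
  have hσy : ∀ y : F, σ y = y ∨ σ y = y + 1 := by
    intro y
    have e1 : σ (y ^ 2 + y) = y ^ 2 + y := by
      rcases hy y with h | h
      · rw [h, map_zero]
      · rw [h, map_one]
    rw [map_add, map_pow] at e1
    have e : (σ y - y) * (σ y - (y + 1)) = 0 := by
      linear_combination e1 + (-(σ y) * y + y ^ 2 - σ y + y) * h2
    rcases mul_eq_zero.mp e with h | h
    · exact Or.inl (by linear_combination h)
    · exact Or.inr (by linear_combination h)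
  obtain ⟨x0, hx0⟩ := hσ
  have hx0' : σ x0 = x0 + 1 := (hσy x0).resolve_left hx0
  have hx0q : x0 ^ 2 + x0 = 1 := by
    rcases hy x0 with h | h
    · exfalso
      have hm : x0 * (x0 + 1) = 0 := by linear_combination h
      rcases mul_eq_zero.mp hm with h' | h'
      · apply hx0
        rw [h', map_zero]
      · apply hx0
        have e : x0 = 1 := by linear_combination h' - h2
        rw [e, map_one]
    · exact h
  rcases hy x with h | h
  · have hxx : x * (x + 1) = 0 := by linear_combination h
    rcases mul_eq_zero.mp hxx with h' | h'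
    · rw [h', map_zero]
      ring
    · have e : x = 1 := by linear_combination h' - h2
      rw [e, map_one]
      ring
  · have hx2 : x ^ 2 = x + 1 := by linear_combination h - x * h2
    rw [hx2]
    rcases hσy x with hs | hs
    · exfalso
      have e : (x - x0) * (x - (x0 + 1)) = 0 := by
        linear_combination h - hx0q + (-x * x0 + x0 ^ 2 - x + x0) * h2
      rcases mul_eq_zero.mp e with h' | h'
      · have hxe : x = x0 := by linear_combination h'
        rw [hxe] at hs
        exact hx0 hs
      · have hxe : x = x0 + 1 := by linear_combination h'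
        rw [hxe, map_add, map_one, hx0'] at hs
        have h10 : (1 : F) = 0 := by linear_combination hs
        exact one_ne_zero h10
    · exact hs

theorem s34 : StS34.{u} := by
  intro F _ _ σ g h hσ hcard hreal
  obtain ⟨hgh, c, c', hcc, hh⟩ := hreal
  have two0 : (2 : F) = 0 := by
    obtain ⟨n, hp, hn⟩ := FiniteField.card F (ringChar F)
    have hdvd : ringChar F ∣ 2 ^ 2 := by
      have h1 : ringChar F ∣ Fintype.card F := by
        rw [hn]
        exact dvd_pow_self _ n.ne_zero
      rw [hcard] at h1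
      exact h1
    have h2 : ringChar F = 2 :=
      (Nat.prime_dvd_prime_iff_eq hp Nat.prime_two).mp (hp.dvd_of_dvd_pow hdvd)
    have h3 := ringChar.Nat.cast_ringChar (R := F)
    rw [h2] at h3
    exact_mod_cast h3
  have hfrob := s34_frob hcard two0 σ hσ
  have h3 : ∀ y : F, y ≠ 0 → y ^ 3 = 1 := by
    intro y hy
    have := FiniteField.pow_card_sub_one_eq_one y hy
    rwa [hcard] at this
  have hneg : ∀ y : F, -y = y := fun y => by linear_combination (-y) * two0
  have hc'c : c' * c = 1 := mul_eq_one_comm.mp hcc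
  have htr : h.trace = g.trace ^ 2 := by
    rw [hh, Matrix.trace_mul_comm, ← mul_assoc, hc'c, one_mul, Matrix.trace_transpose, ← hfrob]
    simp [Matrix.trace_fin_three]
  have hdet : g.det * h.det = 1 := by rw [← Matrix.det_mul, hgh, Matrix.det_one]
  have hd0 : g.det ≠ 0 := left_ne_zero_of_mul_eq_one hdet
  obtain ⟨a, ha⟩ : ∃ a : F, a = g.trace := ⟨_, rfl⟩
  obtain ⟨d, hd⟩ : ∃ d : F, d = g.det := ⟨_, rfl⟩
  have hd3 : d ^ 3 = 1 := by
    rw [hd]
    exact h3 _ hd0
  have hch : g ^ 3 = a • g ^ 2 + (d * a ^ 2) • g + d • (1 : Matrix (Fin 3) (Fin 3) F) := by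
    have e := s34_ch g
    rw [s34_b_eq g h hgh, htr, ← ha, ← hd] at e
    rw [e, sub_eq_add_neg, ← neg_smul, hneg]
  by_cases ha0 : a = 0
  · refine ⟨3, by norm_num, by norm_num, d, ?_⟩
    rw [hch, ha0]
    simp
  · have ha3 : a ^ 3 = 1 := h3 a ha0
    have e4 := s34_red g hch a (d * a ^ 2) d
    rw [← hch] at e4
    have e4' : g ^ 4 = (a ^ 2 * (1 + d)) • g ^ 2 + (0 : F) • g +
        (a * d) • (1 : Matrix (Fin 3) (Fin 3) F) := by
      have c1 : a * a + d * a ^ 2 = a ^ 2 * (1 + d) := by ring
      have c2 : a * (d * a ^ 2) + d = 0 := by linear_combination d * ha3 + d * two0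
      have e0 : g ^ 4 = g * g ^ 3 := pow_succ' g 3
      rw [e0, e4, c1, c2]
    by_cases hd1 : d = 1
    · refine ⟨4, by norm_num, by norm_num, a, ?_⟩
      have c3 : a ^ 2 * (1 + d) = 0 := by
        rw [hd1]
        linear_combination a ^ 2 * two0
      rw [e4', c3, hd1, zero_smul, zero_smul, zero_add, zero_add, mul_one]
    · have hd2 : 1 + d + d ^ 2 = 0 := by
        have e : (d - 1) * (1 + d + d ^ 2) = 0 := by linear_combination hd3
        rcases mul_eq_zero.mp e with h' | h'
        · exact absurd (by linear_combination h') hd1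
        · exact h'
      have e5 := s34_red g hch (a ^ 2 * (1 + d)) 0 (a * d)
      rw [← e4'] at e5
      have e5' : g ^ 5 = (1 + d) • g ^ 2 + (a * d ^ 2) • g +
          (a ^ 2 * d * (1 + d)) • (1 : Matrix (Fin 3) (Fin 3) F) := by
        have c1 : a ^ 2 * (1 + d) * a + 0 = 1 + d := by linear_combination (1 + d) * ha3
        have c2 : a ^ 2 * (1 + d) * (d * a ^ 2) + a * d = a * d ^ 2 := by
          linear_combination (a * d * (1 + d)) * ha3 + (a * d) * two0
        have c3 : a ^ 2 * (1 + d) * d = a ^ 2 * d * (1 + d) := by ring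
        have e0 : g ^ 5 = g * g ^ 4 := pow_succ' g 4
        rw [e0, e5, c1, c2, c3]
      have e6 := s34_red g hch (1 + d) (a * d ^ 2) (a ^ 2 * d * (1 + d))
      rw [← e5'] at e6
      refine ⟨6, by norm_num, by norm_num, 1, ?_⟩
      have c1 : (1 + d) * a + a * d ^ 2 = 0 := by linear_combination a * hd2
      have c2 : (1 + d) * (d * a ^ 2) + a ^ 2 * d * (1 + d) = 0 := by
        linear_combination (a ^ 2 * d * (1 + d)) * two0
      have c3 : (1 + d) * d = 1 := by linear_combination hd2 - two0
      have e0 : g ^ 6 = g * g ^ 5 := pow_succ' g 5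
      rw [e0, e6, c1, c2, c3, zero_smul, zero_smul, zero_add, zero_add]

example : StS34.{u} := s34

end Cfsg.Agent.H40.Am
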