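import Mathlib
import Cfsg.Prelude.Def_Transfer

/-!
# BG10 piece L2: a nilpotent Hall `π`-subgroup from normal `p`-complements

If a finite group `X` has a normal `p`-complement for every prime `p ∈ π` dividing its order,
then the intersection `D` of these complements is a normal Hall `π'`-subgroup with a nilpotent
complement `H` (a Hall `π`-subgroup).
-/

set_option autoImplicit false
open Cfsg Subgroup

namespace Cfsg.Agent.H40.BG10

theorem nilp_hall_of_complements {X : Type*} [Group X] [Finite X] (π : Set ℕ)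
    (h : ∀ p : ℕ, p.Prime → p ∣ Nat.card X → p ∈ π → HasNormalPComplement p X) :
    ∃ H : Subgroup X, Group.IsNilpotent H ∧ (∀ q : ℕ, q.Prime → q ∣ Nat.card H → q ∈ π) ∧
      (∀ q : ℕ, q.Prime → q ∈ π → ¬ q ∣ H.index) ∧
      ∃ D : Subgroup X, D.Normal ∧ D.IsComplement' H ∧
        ∀ q : ℕ, q.Prime → q ∣ Nat.card D → q ∉ π := by
  classical
  obtain ⟨S, hS⟩ : ∃ S : Set ℕ, S = {p | p.Prime ∧ p ∣ Nat.card X ∧ p ∈ π} := ⟨_, rfl⟩
  have hSmem : ∀ p : ↥S, p.1.Prime ∧ p.1 ∣ Nat.card X ∧ p.1 ∈ π :=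
    fun p => (Set.ext_iff.mp hS p.1).mp p.2
  have hSfin : S.Finite := by
    apply Set.Finite.subset (Set.finite_Iic (Nat.card X))
    intro p hp
    rw [hS] at hp
    exact Nat.le_of_dvd Nat.card_pos hp.2.1
  have : Finite ↥S := hSfin.to_subtype
  have : Fintype ↥S := Fintype.ofFinite _
  choose P K hKn hKc using fun p : ↥S => h p.1 (hSmem p).1 (hSmem p).2.1 (hSmem p).2.2
  have : ∀ p : ↥S, (K p).Normal := hKn
  have hprime : ∀ p : ↥S, Fact (p.1.Prime) := fun p => ⟨(hSmem p).1⟩
  have hidx : ∀ p : ↥S, (K p).index = Nat.card (P p : Subgroup X) :=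
    fun p => (hKc p).symm.index_eq_card
  have hidx' : ∀ p : ↥S, (P p : Subgroup X).index = Nat.card (K p) :=
    fun p => (hKc p).index_eq_card
  have hKcop : ∀ p : ↥S, ¬ p.1 ∣ Nat.card (K p) := by
    intro p hdvd
    have := hprime p
    have h1 : p.1 ∣ Nat.card (P p : Subgroup X) := (P p).dvd_card_of_dvd_card (hSmem p).2.1
    have h2 : (Nat.card (P p : Subgroup X)).Coprime (P p : Subgroup X).index :=
      (P p).card_coprime_index
    rw [hidx' p] at h2
    have h3 : p.1 ∣ 1 := by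
      have := Nat.dvd_gcd h1 hdvd
      rwa [Nat.Coprime.gcd_eq_one h2] at this
    exact (hSmem p).1.one_lt.ne' (Nat.dvd_one.mp h3)
  obtain ⟨D, hD⟩ : ∃ D : Subgroup X, D = ⨅ p : ↥S, K p := ⟨_, rfl⟩
  have hDn : D.Normal := by rw [hD]; exact Subgroup.normal_iInf_normal hKn
  let f : X →* (∀ p : ↥S, X ⧸ K p) := MonoidHom.pi (fun p => QuotientGroup.mk' (K p))
  have hker : f.ker = D := by
    ext x
    rw [MonoidHom.mem_ker, hD, Subgroup.mem_iInf]
    constructor
    · intro hx p
      have h1 := congrFun hx p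
      exact (QuotientGroup.eq_one_iff x).mp h1
    · intro hx
      funext p
      exact (QuotientGroup.eq_one_iff x).mpr (hx p)
  have hDidx : ∀ q : ℕ, q.Prime → q ∣ D.index → q ∈ π := by
    intro q hq hqd
    rw [← hker, Subgroup.index_ker] at hqd
    have h1 : Nat.card f.range ∣ Nat.card (∀ p : ↥S, X ⧸ K p) :=
      Subgroup.card_subgroup_dvd_card _
    rw [Nat.card_pi] at h1
    have h2 := hqd.trans h1
    obtain ⟨p, -, hp⟩ := (Nat.Prime.prime hq).dvd_finsetProd_iff _ |>.mp h2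
    have h3 : Nat.card (X ⧸ K p) = Nat.card (P p : Subgroup X) := hidx p
    rw [h3] at hp
    have := hprime p
    obtain ⟨n, hn⟩ := IsPGroup.iff_card.mp (P p).isPGroup'
    rw [hn] at hp
    have h4 := (Nat.prime_dvd_prime_iff_eq hq (hSmem p).1).mp (hq.dvd_of_dvd_pow hp)
    rw [h4]; exact (hSmem p).2.2
  have hDcard : ∀ q : ℕ, q.Prime → q ∣ Nat.card D → q ∉ π := by
    intro q hq hqd hqπ
    have hqX : q ∣ Nat.card X := hqd.trans (Subgroup.card_subgroup_dvd_card D)
    have hqS : q ∈ S := by rw [hS]; exact ⟨hq, hqX, hqπ⟩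
    have hle : D ≤ K ⟨q, hqS⟩ := by rw [hD]; exact iInf_le _ _
    exact hKcop ⟨q, hqS⟩ (hqd.trans (Subgroup.card_dvd_of_le hle))
  have hcop : (Nat.card D).Coprime D.index :=
    Nat.coprime_of_dvd fun q hq h1 h2 => hDcard q hq h1 (hDidx q hq h2)
  have := hDn
  obtain ⟨H, hH⟩ := Subgroup.exists_right_complement'_of_coprime hcop
  refine ⟨H, ?_, ?_, ?_, D, hDn, hH, hDcard⟩
  · have hinj : Function.Injective (f.comp H.subtype) := by
      rw [injective_iff_map_eq_one]
      intro x hx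
      have hxD : (x : X) ∈ D := by rw [← hker]; exact hx
      have hx1 : (x : X) ∈ D ⊓ H := ⟨hxD, x.2⟩
      rw [hH.disjoint.eq_bot, mem_bot] at hx1
      exact Subtype.ext hx1
    have : ∀ p : ↥S, Group.IsNilpotent (X ⧸ K p) := fun p => by
      have := hprime p
      obtain ⟨n, hn⟩ := IsPGroup.iff_card.mp (P p).isPGroup'
      have hc : Nat.card (X ⧸ K p) = p.1 ^ n := by
        have h3 : Nat.card (X ⧸ K p) = Nat.card (P p : Subgroup X) := hidx p
        rw [h3, hn]
      exact (IsPGroup.of_card hc).isNilpotent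
    exact Group.nilpotent_of_mulEquiv (MonoidHom.ofInjective hinj).symm
  · intro q hq hqH
    rw [← hH.symm.index_eq_card] at hqH
    exact hDidx q hq hqH
  · intro q hq hqπ hqH
    rw [hH.index_eq_card] at hqH
    exact hDcard q hq hqH hqπ

end Cfsg.Agent.H40.BG10
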