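import Mathlib

set_option autoImplicit false

/-!
# S0999 piece TBFIN (helper40 for helper21): structure of `C(τ)` from the count at `τ`
-/

namespace Cfsg.Agent.H40.BRFin

theorem sq_eq_one_cases {R : Type*} [Group R] [Finite R] [IsCyclic R] (τ u : R)
    (hτ1 : τ ≠ 1) (hτ : τ ^ 2 = 1) (hu : u ^ 2 = 1) : u = 1 ∨ u = τ := by
  classical
  have : Fintype R := Fintype.ofFinite R
  by_contra hcon
  push Not at hcon
  have hle := IsCyclic.card_pow_eq_one_le (α := R) (n := 2) (by norm_num)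
  have hsub : ({1, τ, u} : Finset R) ⊆ Finset.univ.filter (fun a : R => a ^ 2 = 1) := by
    intro x hx
    simp only [Finset.mem_insert, Finset.mem_singleton] at hx
    rw [Finset.mem_filter]
    refine ⟨Finset.mem_univ _, ?_⟩
    rcases hx with rfl | rfl | rfl
    · simp
    · exact hτ
    · exact hu
  have hcard : ({1, τ, u} : Finset R).card = 3 := by
    rw [Finset.card_insert_of_notMem, Finset.card_insert_of_notMem, Finset.card_singleton]
    · simp only [Finset.mem_singleton]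
      exact fun h => hcon.2 h.symm
    · simp only [Finset.mem_insert, Finset.mem_singleton, not_or]
      exact ⟨fun h => hτ1 h.symm, fun h => hcon.1 h.symm⟩
  have := Finset.card_le_card hsub
  omega

theorem tau_centralizer_structure {G : Type*} [Group G] [Finite G] (τ : G) (hτ : orderOf τ = 2)
    (e t : ℕ) (ht3 : 3 ≤ t) (hC : Nat.card (Subgroup.centralizer ({τ} : Set G)) = t * e)
    (R : Subgroup G) (hR : R ≤ Subgroup.centralizer ({τ} : Set G)) (hτR : τ ∈ R)
    (hRc : Nat.card R = e) (hRcyc : IsCyclic R)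
    (hcount : Nat.card {ab : G × G // ab.1 * τ * ab.1⁻¹ * (ab.2 * τ⁻¹ * ab.2⁻¹) = τ} =
      (t * e) ^ 2 * (t * e - e)) :
    e = 2 ∧ (∀ g ∈ Subgroup.centralizer ({τ} : Set G), g ^ 2 = 1) ∧
      ∀ g ∈ Subgroup.centralizer ({τ} : Set G), g ≠ 1 → ∃ a : G, a * τ * a⁻¹ = g := by
  classical
  set C : Subgroup G := Subgroup.centralizer ({τ} : Set G) with hCdef
  have hτ2 : τ ^ 2 = 1 := by rw [← hτ]; exact pow_orderOf_eq_one τ
  have hττ : τ * τ = 1 := by rw [← pow_two]; exact hτ2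
  have hτinv : τ⁻¹ = τ := inv_eq_of_mul_eq_one_left hττ
  have hτ1 : τ ≠ 1 := by
    intro h
    rw [h, orderOf_one] at hτ
    omega
  have memC : ∀ g : G, g ∈ C ↔ τ * g = g * τ := by
    intro g
    rw [hCdef, Subgroup.mem_centralizer_iff]
    simp
  have he1 : 1 ≤ e := by rw [← hRc]; exact Nat.card_pos
  -- conjugates of `τ` are involutions
  have conj_sq : ∀ a : G, (a * τ * a⁻¹) * (a * τ * a⁻¹) = 1 := by
    intro a
    have : a * τ * a⁻¹ * (a * τ * a⁻¹) = a * (τ * τ) * a⁻¹ := by group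
    rw [this, hττ]; group
  have conj_ne : ∀ a : G, a * τ * a⁻¹ ≠ 1 := by
    intro a h
    apply hτ1
    have : τ = a⁻¹ * (a * τ * a⁻¹) * a := by group
    rw [this, h]; group
  -- Step A
  have stepA : ∀ a b : G, a * τ * a⁻¹ * (b * τ⁻¹ * b⁻¹) = τ →
      a * τ * a⁻¹ ∈ C ∧ a * τ * a⁻¹ ∉ R := by
    intro a b h
    set u := a * τ * a⁻¹ with hu
    have huu : u * u = 1 := conj_sq a
    have hv : b * τ⁻¹ * b⁻¹ = u * τ := by
      have h0 : b * τ⁻¹ * b⁻¹ = u⁻¹ * (u * (b * τ⁻¹ * b⁻¹)) := by group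
      rw [h0, h, inv_eq_of_mul_eq_one_left huu]
    have hvv : (u * τ) * (u * τ) = 1 := by
      rw [← hv, hτinv]; exact conj_sq b
    have hcomm : τ * u = u * τ := by
      have h1 : τ * u = u⁻¹ * ((u * τ) * (u * τ)) * τ⁻¹ := by group
      rw [h1, hvv, inv_eq_of_mul_eq_one_left huu, hτinv]; group
    refine ⟨(memC u).mpr hcomm, ?_⟩
    intro huR
    have hcases := sq_eq_one_cases (R := R) ⟨τ, hτR⟩ ⟨u, huR⟩
      (fun h => hτ1 (congrArg Subtype.val h)) (Subtype.ext (by simpa using hτ2))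
      (Subtype.ext (by simpa [pow_two] using huu))
    rcases hcases with h1 | h1
    · exact conj_ne a (congrArg Subtype.val h1)
    · have hut : u = τ := congrArg Subtype.val h1
      have : b * τ⁻¹ * b⁻¹ = 1 := by rw [hv, hut, hττ]
      rw [hτinv] at this
      exact conj_ne b this
  -- Step B: every element of `C \ R` is a conjugate of `τ`
  set good : Set G := {u | ∃ a b : G, a * τ * a⁻¹ = u ∧ a * τ * a⁻¹ * (b * τ⁻¹ * b⁻¹) = τ}
    with hgood
  have hgood_sub : good ⊆ (C : Set G) \ (R : Set G) := by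
    rintro u ⟨a, b, rfl, h⟩
    exact stepA a b h
  let A : good → G := fun u => u.2.choose
  let B : good → G := fun u => u.2.choose_spec.choose
  have hA : ∀ u : good, A u * τ * (A u)⁻¹ = u.1 := fun u => u.2.choose_spec.choose_spec.1
  have hB : ∀ u : good, A u * τ * (A u)⁻¹ * (B u * τ⁻¹ * (B u)⁻¹) = τ :=
    fun u => u.2.choose_spec.choose_spec.2
  let U : {ab : G × G // ab.1 * τ * ab.1⁻¹ * (ab.2 * τ⁻¹ * ab.2⁻¹) = τ} → good :=
    fun x => ⟨x.1.1 * τ * x.1.1⁻¹, ⟨x.1.1, x.1.2, rfl, x.2⟩⟩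
  have hc1 : ∀ x : {ab : G × G // ab.1 * τ * ab.1⁻¹ * (ab.2 * τ⁻¹ * ab.2⁻¹) = τ},
      (A (U x))⁻¹ * x.1.1 ∈ C := by
    intro x
    rw [memC]
    have h1 : A (U x) * τ * (A (U x))⁻¹ = x.1.1 * τ * x.1.1⁻¹ := hA (U x)
    have h2 : τ * ((A (U x))⁻¹ * x.1.1)
        = (A (U x))⁻¹ * (A (U x) * τ * (A (U x))⁻¹) * x.1.1 := by group
    rw [h2, h1]; group
  have hc2 : ∀ x : {ab : G × G // ab.1 * τ * ab.1⁻¹ * (ab.2 * τ⁻¹ * ab.2⁻¹) = τ},
      (B (U x))⁻¹ * x.1.2 ∈ C := by
    intro x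
    rw [memC]
    have h1 : A (U x) * τ * (A (U x))⁻¹ = x.1.1 * τ * x.1.1⁻¹ := hA (U x)
    have h3 : B (U x) * τ⁻¹ * (B (U x))⁻¹ = x.1.2 * τ⁻¹ * x.1.2⁻¹ := by
      have e1 := hB (U x)
      have e2 := x.2
      rw [h1] at e1
      exact mul_left_cancel (e1.trans e2.symm)
    have h3' : B (U x) * τ * (B (U x))⁻¹ = x.1.2 * τ * x.1.2⁻¹ := by
      have e3 : B (U x) * τ * (B (U x))⁻¹ = (B (U x) * τ⁻¹ * (B (U x))⁻¹)⁻¹ := by group
      rw [e3, h3]; group
    have h2 : τ * ((B (U x))⁻¹ * x.1.2)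
        = (B (U x))⁻¹ * (B (U x) * τ * (B (U x))⁻¹) * x.1.2 := by group
    rw [h2, h3']; group
  let Ψ : {ab : G × G // ab.1 * τ * ab.1⁻¹ * (ab.2 * τ⁻¹ * ab.2⁻¹) = τ} → good × C × C :=
    fun x => (U x, ⟨(A (U x))⁻¹ * x.1.1, hc1 x⟩, ⟨(B (U x))⁻¹ * x.1.2, hc2 x⟩)
  have hΨ : Function.Injective Ψ := by
    intro x y hxy
    have h1 : U x = U y := congrArg Prod.fst hxy
    have h2 : (A (U x))⁻¹ * x.1.1 = (A (U y))⁻¹ * y.1.1 :=
      congrArg (fun z : good × C × C => (z.2.1 : G)) hxy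
    have h3 : (B (U x))⁻¹ * x.1.2 = (B (U y))⁻¹ * y.1.2 :=
      congrArg (fun z : good × C × C => (z.2.2 : G)) hxy
    rw [h1] at h2 h3
    apply Subtype.ext
    exact Prod.ext (mul_left_cancel h2) (mul_left_cancel h3)
  have hcard_le := Nat.card_le_card_of_injective Ψ hΨ
  rw [hcount, Nat.card_prod, Nat.card_prod, hC] at hcard_le
  have hte : 0 < t * e := Nat.mul_pos (by omega) he1
  have hgoodcard : Nat.card good = good.ncard := Nat.card_coe_set_eq good
  have hCR : ((C : Set G) \ (R : Set G)).ncard = t * e - e := by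
    rw [Set.ncard_sdiff (show (R : Set G) ⊆ (C : Set G) from hR)]
    have h1 : (C : Set G).ncard = t * e := by
      rw [← Nat.card_coe_set_eq]; exact hC
    have h2 : (R : Set G).ncard = e := by
      rw [← Nat.card_coe_set_eq]; exact hRc
    rw [h1, h2]
  have hge : t * e - e ≤ good.ncard := by
    rw [← hgoodcard]
    have h1 : (t * e) ^ 2 * (t * e - e) ≤ (t * e) ^ 2 * Nat.card good := by
      calc (t * e) ^ 2 * (t * e - e) ≤ Nat.card good * (t * e * (t * e)) := hcard_le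
        _ = (t * e) ^ 2 * Nat.card good := by ring
    exact Nat.le_of_mul_le_mul_left h1 (by positivity)
  have hgood_eq : good = (C : Set G) \ (R : Set G) :=
    Set.eq_of_subset_of_ncard_le hgood_sub (by rw [hCR]; exact hge)
  have stepB : ∀ u ∈ C, u ∉ R → ∃ a : G, a * τ * a⁻¹ = u := by
    intro u huC huR
    have : u ∈ good := by rw [hgood_eq]; exact ⟨huC, huR⟩
    obtain ⟨a, b, h, -⟩ := this
    exact ⟨a, h⟩
  have stepB_sq : ∀ u ∈ C, u ∉ R → u * u = 1 := by
    intro u huC huR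
    obtain ⟨a, rfl⟩ := stepB u huC huR
    exact conj_sq a
  -- Step C: elements of `C \ R` invert `R`
  have stepC : ∀ u ∈ C, u ∉ R → ∀ r ∈ R, u * r * u⁻¹ = r⁻¹ := by
    intro u huC huR r hr
    have hurC : u * r ∈ C := mul_mem huC (hR hr)
    have hurR : u * r ∉ R := by
      intro h
      apply huR
      have : u = u * r * r⁻¹ := by group
      rw [this]
      exact mul_mem h (inv_mem hr)
    have h1 := stepB_sq (u * r) hurC hurR
    have h2 := stepB_sq u huC huR
    have h3 : u⁻¹ = u := inv_eq_of_mul_eq_one_left h2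
    rw [h3]
    have h4 : u * r * u = ((u * r) * (u * r)) * r⁻¹ := by group
    rw [h4, h1, one_mul]
  -- Step D
  have hlt : e < t * e := by nlinarith
  obtain ⟨u₁, hu₁C, hu₁R⟩ : ∃ u₁ ∈ C, u₁ ∉ R := by
    by_contra hcon
    push Not at hcon
    have hle : C ≤ R := fun x hx => hcon x hx
    have := Subgroup.card_le_of_le hle
    rw [hC, hRc] at this
    omega
  obtain ⟨u₃, hu₃C, hu₃R, hu₃⟩ : ∃ u₃ ∈ C, u₃ ∉ R ∧ u₁⁻¹ * u₃ ∉ R := by
    by_contra hcon
    push Not at hcon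
    have hsub : (C : Set G) ⊆ (R : Set G) ∪ (fun r => u₁ * r) '' (R : Set G) := by
      intro x hx
      by_cases hxR : x ∈ R
      · exact Or.inl hxR
      · right
        exact ⟨u₁⁻¹ * x, hcon x hx hxR, by group⟩
    have h1 := Set.ncard_le_ncard hsub
    have h2 := Set.ncard_union_le (R : Set G) ((fun r => u₁ * r) '' (R : Set G))
    have h3 := Set.ncard_image_le (f := fun r => u₁ * r) (s := (R : Set G))
    have h4 : (C : Set G).ncard = t * e := by
      rw [← Nat.card_coe_set_eq]; exact hC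
    have h5 : (R : Set G).ncard = e := by
      rw [← Nat.card_coe_set_eq]; exact hRc
    have : t * e ≤ e + e := by omega
    nlinarith
  have hu₁inv : u₁⁻¹ = u₁ := inv_eq_of_mul_eq_one_left (stepB_sq u₁ hu₁C hu₁R)
  rw [hu₁inv] at hu₃
  have hu₂C : u₁ * u₃ ∈ C := mul_mem hu₁C hu₃C
  -- every element of `R` has square one
  have hRsq : ∀ r ∈ R, r * r = 1 := by
    intro r hr
    have h1 := stepC u₃ hu₃C hu₃R r hr
    have h2 := stepC (u₁ * u₃) hu₂C hu₃ r hr
    have h3 := stepC u₁ hu₁C hu₁R r⁻¹ (inv_mem hr)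
    rw [inv_inv] at h3
    -- u₃ = u₁ (u₁ u₃)
    have h4 : u₃ * r * u₃⁻¹ = u₁ * ((u₁ * u₃) * r * (u₁ * u₃)⁻¹) * u₁⁻¹ := by
      have : u₁ * (u₁ * u₃ * r * (u₁ * u₃)⁻¹) * u₁⁻¹
          = (u₁ * u₁) * u₃ * r * u₃⁻¹ * (u₁ * u₁)⁻¹ := by group
      rw [this, stepB_sq u₁ hu₁C hu₁R]; group
    rw [h2, h3] at h4
    rw [h1] at h4
    -- r⁻¹ = r
    have : r * r = r * r⁻¹ := by rw [h4]
    rw [this]; group
  -- Step E: `|R| = 2`
  have he2 : e = 2 := by
    have : Fintype R := Fintype.ofFinite R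
    have hle := IsCyclic.card_pow_eq_one_le (α := R) (n := 2) (by norm_num)
    have huniv : Finset.univ.filter (fun a : R => a ^ 2 = 1) = Finset.univ := by
      apply Finset.filter_true_of_mem
      intro r _
      apply Subtype.ext
      simpa [pow_two] using hRsq r r.2
    rw [huniv, Finset.card_univ, ← Nat.card_eq_fintype_card, hRc] at hle
    have h2 : 2 ≤ e := by
      rw [← hRc]
      by_contra hlt2
      have h1 : Nat.card R = 1 := by
        have := Nat.card_pos (α := R)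
        omega
      have hsub : Subsingleton R := (Nat.card_eq_one_iff_unique.mp h1).1
      exact hτ1 (congrArg Subtype.val (Subsingleton.elim (⟨τ, hτR⟩ : R) 1))
    omega
  have hRmem : ∀ g ∈ R, g ≠ 1 → g = τ := by
    intro g hg hg1
    have hcard2 : Nat.card R = 2 := by rw [hRc, he2]
    obtain ⟨y, -, hy⟩ := (Nat.card_eq_two_iff' (1 : R)).mp hcard2
    have h1 := hy ⟨g, hg⟩ (fun h => hg1 (congrArg Subtype.val h))
    have h2 := hy ⟨τ, hτR⟩ (fun h => hτ1 (congrArg Subtype.val h))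
    exact congrArg Subtype.val (h1.trans h2.symm)
  refine ⟨he2, ?_, ?_⟩
  · intro g hg
    rw [pow_two]
    by_cases hgR : g ∈ R
    · exact hRsq g hgR
    · exact stepB_sq g hg hgR
  · intro g hg hg1
    by_cases hgR : g ∈ R
    · refine ⟨1, ?_⟩
      rw [hRmem g hgR hg1]; group
    · exact stepB g hg hgR

end Cfsg.Agent.H40.BRFin
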