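import Mathlib

set_option autoImplicit false

/-!
# S0999 piece TBG2 (helper40 for helper21): the number of ways to write `x ∈ P \ 1` as a
product of two conjugates of `τ`
-/

namespace Cfsg.Agent.H40.BRG2

theorem card_pairs_eq {G : Type*} [Group G] [Finite G] (p : ℕ) [Fact p.Prime] (hp2 : p ≠ 2)
    (P : Sylow p G) (hP : Nat.card (P : Subgroup G) = p)
    (hC : Subgroup.centralizer ((P : Subgroup G) : Set G) = (P : Subgroup G))
    (τ : G) (hτ : orderOf τ = 2) (hinv : ∀ x ∈ (P : Subgroup G), τ * x * τ⁻¹ = x⁻¹)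
    (x : G) (hx : x ∈ (P : Subgroup G)) (hx1 : x ≠ 1) :
    Nat.card {ab : G × G // ab.1 * τ * ab.1⁻¹ * (ab.2 * τ⁻¹ * ab.2⁻¹) = x} =
      p * Nat.card (Subgroup.centralizer ({τ} : Set G)) ^ 2 := by
  classical
  set C : Subgroup G := Subgroup.centralizer ({τ} : Set G) with hCdef
  have hp : p.Prime := Fact.out
  have hτ2 : τ ^ 2 = 1 := by rw [← hτ]; exact pow_orderOf_eq_one τ
  have hττ : τ * τ = 1 := by rw [← pow_two]; exact hτ2
  have hτinv : τ⁻¹ = τ := inv_eq_of_mul_eq_one_left hττ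
  have memC : ∀ g : G, g ∈ C ↔ τ * g = g * τ := by
    intro g
    rw [hCdef, Subgroup.mem_centralizer_iff]
    simp
  have hcommP : ∀ y ∈ (P : Subgroup G), ∀ y' ∈ (P : Subgroup G), y * y' = y' * y := by
    intro y hy y' hy'
    have h : y' ∈ Subgroup.centralizer ((P : Subgroup G) : Set G) := by rw [hC]; exact hy'
    exact (Subgroup.mem_centralizer_iff.mp h) y hy
  have hpowp : ∀ y ∈ (P : Subgroup G), y ^ p = 1 := by
    intro y hy
    have h := pow_card_eq_one' (G := (P : Subgroup G)) (x := ⟨y, hy⟩)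
    rw [hP] at h
    have h2 := congrArg Subtype.val h
    simpa using h2
  -- elements of `P ∩ C(τ)` are trivial
  have hPC : ∀ y ∈ (P : Subgroup G), y ∈ C → y = 1 := by
    intro y hy hyC
    have h1 := hinv y hy
    have h2 : τ * y * τ⁻¹ = y := by rw [(memC y).mp hyC]; group
    have h3 : y * y = 1 := by
      have h0 : y⁻¹ = y := h1.symm.trans h2
      calc y * y = y⁻¹ * y := by rw [h0]
        _ = 1 := by group
    have h4 : y ^ 2 = 1 := by rw [pow_two]; exact h3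
    have h5 : y ^ p = 1 := hpowp y hy
    have hcop : Nat.gcd 2 p = 1 := by
      have : Nat.Coprime 2 p := by
        rw [Nat.coprime_primes Nat.prime_two hp]; exact fun h => hp2 h.symm
      exact this
    have h6 := orderOf_dvd_of_pow_eq_one h4
    have h7 := orderOf_dvd_of_pow_eq_one h5
    have h8 : orderOf y ∣ Nat.gcd 2 p := Nat.dvd_gcd h6 h7
    rw [hcop] at h8
    exact orderOf_eq_one_iff.mp (Nat.dvd_one.mp h8)
  obtain ⟨k, hk⟩ : ∃ k, p = 2 * k + 1 := by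
    rcases hp.eq_two_or_odd with h | h
    · exact absurd h hp2
    · exact ⟨p / 2, by omega⟩
  have hsq : ∀ y ∈ (P : Subgroup G), y ^ (k + 1) * y ^ (k + 1) = y := by
    intro y hy
    have h1 : y ^ (k + 1) * y ^ (k + 1) = y ^ p * y := by
      rw [← pow_add, ← pow_succ, hk]
      congr 1
      omega
    rw [h1, hpowp y hy, one_mul]
  -- conjugating `τ` by an element of `P`
  have hconjP : ∀ w ∈ (P : Subgroup G), w * τ * w⁻¹ = w * w * τ := by
    intro w hw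
    have h := hinv w⁻¹ (inv_mem hw)
    rw [inv_inv] at h
    calc w * τ * w⁻¹ = w * (τ * w⁻¹ * τ⁻¹) * τ := by group
      _ = w * w * τ := by rw [h]
  -- an element inverting `x` inverts `P`
  have hinvP : ∀ u : G, u * x * u⁻¹ = x⁻¹ → ∀ y ∈ (P : Subgroup G), u * y * u⁻¹ = y⁻¹ := by
    intro u hu y hy
    have hmem : (⟨y, hy⟩ : (P : Subgroup G)) ∈ Subgroup.zpowers (⟨x, hx⟩ : (P : Subgroup G)) :=
      mem_zpowers_of_prime_card hP (fun h => hx1 (congrArg Subtype.val h))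
    obtain ⟨n, hn⟩ := Subgroup.mem_zpowers_iff.mp hmem
    have hy' : y = x ^ n := by
      have h := congrArg Subtype.val hn
      simpa using h.symm
    rw [hy', ← conj_zpow, hu, inv_zpow]
  -- membership of the parametrised pairs
  have hmemS : ∀ w ∈ (P : Subgroup G), ∀ c ∈ C, ∀ d ∈ C,
      (w * c) * τ * (w * c)⁻¹ * (((w * w * x⁻¹) ^ (k + 1) * d) * τ⁻¹ *
        ((w * w * x⁻¹) ^ (k + 1) * d)⁻¹) = x := by
    intro w hw c hc d hd
    have hq : w * w * x⁻¹ ∈ (P : Subgroup G) := mul_mem (mul_mem hw hw) (inv_mem hx)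
    have hw' : (w * w * x⁻¹) ^ (k + 1) ∈ (P : Subgroup G) := pow_mem hq _
    have hw'2 : (w * w * x⁻¹) ^ (k + 1) * (w * w * x⁻¹) ^ (k + 1) = w * w * x⁻¹ := hsq _ hq
    generalize (w * w * x⁻¹) ^ (k + 1) = w' at hw' hw'2
    have h1 : (w * c) * τ * (w * c)⁻¹ = w * w * τ := by
      have e1 : (w * c) * τ * (w * c)⁻¹ = w * (c * τ) * c⁻¹ * w⁻¹ := by group
      rw [e1, ← (memC c).mp hc]
      have e2 : w * (τ * c) * c⁻¹ * w⁻¹ = w * τ * w⁻¹ := by group
      rw [e2, hconjP w hw]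
    have h2 : (w' * d) * τ⁻¹ * (w' * d)⁻¹ = w * w * x⁻¹ * τ := by
      rw [hτinv]
      have e1 : (w' * d) * τ * (w' * d)⁻¹ = w' * (d * τ) * d⁻¹ * w'⁻¹ := by group
      rw [e1, ← (memC d).mp hd]
      have e2 : w' * (τ * d) * d⁻¹ * w'⁻¹ = w' * τ * w'⁻¹ := by group
      rw [e2, hconjP w' hw', hw'2]
    rw [h1, h2]
    have h3 : τ * (w * w * x⁻¹) = (w * w * x⁻¹)⁻¹ * τ := by
      have h := hinv _ hq
      calc τ * (w * w * x⁻¹) = (τ * (w * w * x⁻¹) * τ⁻¹) * τ := by group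
        _ = (w * w * x⁻¹)⁻¹ * τ := by rw [h]
    have h4 : w * w * (w * w * x⁻¹)⁻¹ = (w * w * x⁻¹)⁻¹ * (w * w) :=
      hcommP _ (mul_mem hw hw) _ (inv_mem hq)
    calc w * w * τ * (w * w * x⁻¹ * τ) = w * w * (τ * (w * w * x⁻¹)) * τ := by group
      _ = w * w * ((w * w * x⁻¹)⁻¹ * τ) * τ := by rw [h3]
      _ = w * w * (w * w * x⁻¹)⁻¹ * (τ * τ) := by group
      _ = (w * w * x⁻¹)⁻¹ * (w * w) := by rw [hττ, mul_one, h4]
      _ = x := by group
  let Ψ : ↥(P : Subgroup G) × ↥C × ↥C →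
      {ab : G × G // ab.1 * τ * ab.1⁻¹ * (ab.2 * τ⁻¹ * ab.2⁻¹) = x} := fun z =>
    ⟨(z.1.1 * z.2.1.1, (z.1.1 * z.1.1 * x⁻¹) ^ (k + 1) * z.2.2.1),
      hmemS z.1.1 z.1.2 z.2.1.1 z.2.1.2 z.2.2.1 z.2.2.2⟩
  have hΨinj : Function.Injective Ψ := by
    rintro ⟨⟨w, hw⟩, ⟨c, hc⟩, ⟨d, hd⟩⟩ ⟨⟨w₁, hw₁⟩, ⟨c₁, hc₁⟩, ⟨d₁, hd₁⟩⟩ h
    have h1 : w * c = w₁ * c₁ := congrArg (fun s => s.1.1) h
    have h1' : (w * w * x⁻¹) ^ (k + 1) * d = (w₁ * w₁ * x⁻¹) ^ (k + 1) * d₁ :=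
      congrArg (fun s => s.1.2) h
    have h2 : w₁⁻¹ * w = c₁ * c⁻¹ := by
      calc w₁⁻¹ * w = w₁⁻¹ * (w * c) * c⁻¹ := by group
        _ = c₁ * c⁻¹ := by rw [h1]; group
    have h3 : w₁⁻¹ * w ∈ (P : Subgroup G) := mul_mem (inv_mem hw₁) hw
    have h4 : w₁⁻¹ * w ∈ C := by
      rw [h2]; exact mul_mem hc₁ (inv_mem hc)
    have h5 := hPC _ h3 h4
    have hww : w = w₁ := by
      calc w = w₁ * (w₁⁻¹ * w) := by group
        _ = w₁ := by rw [h5, mul_one]
    subst hww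
    have hcc : c = c₁ := mul_left_cancel h1
    subst hcc
    have hdd : d = d₁ := mul_left_cancel h1'
    subst hdd
    rfl
  have hΨsurj : Function.Surjective Ψ := by
    rintro ⟨⟨a, b⟩, hab⟩
    have hab' : a * τ * a⁻¹ * (b * τ * b⁻¹) = x := by
      have h := hab
      simp only at h
      rw [hτinv] at h
      exact h
    have huu : (a * τ * a⁻¹) * (a * τ * a⁻¹) = 1 := by
      have e : a * τ * a⁻¹ * (a * τ * a⁻¹) = a * (τ * τ) * a⁻¹ := by group
      rw [e, hττ]; group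
    have hvv : (b * τ * b⁻¹) * (b * τ * b⁻¹) = 1 := by
      have e : b * τ * b⁻¹ * (b * τ * b⁻¹) = b * (τ * τ) * b⁻¹ := by group
      rw [e, hττ]; group
    generalize hu : a * τ * a⁻¹ = u at hab' huu
    generalize hv : b * τ * b⁻¹ = v at hab' hvv
    have huinv : u⁻¹ = u := inv_eq_of_mul_eq_one_left huu
    have hvinv : v⁻¹ = v := inv_eq_of_mul_eq_one_left hvv
    have hux : u * x * u⁻¹ = x⁻¹ := by
      rw [← hab', huinv]
      have e1 : u * (u * v) * u = (u * u) * v * u := by group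
      have e2 : (u * v)⁻¹ = v⁻¹ * u⁻¹ := by group
      rw [e1, e2, huu, huinv, hvinv, one_mul]
    have huP := hinvP u hux
    -- `u τ ∈ P`
    have hy₀ : u * τ ∈ (P : Subgroup G) := by
      rw [← hC, Subgroup.mem_centralizer_iff]
      intro y hy
      have e1 : τ * y = y⁻¹ * τ := by
        have h := hinv y hy
        calc τ * y = (τ * y * τ⁻¹) * τ := by group
          _ = y⁻¹ * τ := by rw [h]
      have e2 : u * y⁻¹ = y * u := by
        have h := huP y⁻¹ (inv_mem hy)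
        rw [inv_inv] at h
        calc u * y⁻¹ = (u * y⁻¹ * u⁻¹) * u := by group
          _ = y * u := by rw [h]
      symm
      calc u * τ * y = u * (τ * y) := by group
        _ = u * (y⁻¹ * τ) := by rw [e1]
        _ = (u * y⁻¹) * τ := by group
        _ = y * u * τ := by rw [e2]
        _ = y * (u * τ) := by group
    have hwP : (u * τ) ^ (k + 1) ∈ (P : Subgroup G) := pow_mem hy₀ _
    have hww : (u * τ) ^ (k + 1) * (u * τ) ^ (k + 1) = u * τ := hsq _ hy₀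
    generalize (u * τ) ^ (k + 1) = w at hwP hww
    have hwconj : w * τ * w⁻¹ = u := by
      rw [hconjP w hwP, hww]
      calc u * τ * τ = u * (τ * τ) := by group
        _ = u := by rw [hττ, mul_one]
    have hcC : w⁻¹ * a ∈ C := by
      rw [memC]
      have h1 : τ * (w⁻¹ * a) = w⁻¹ * (w * τ * w⁻¹) * a := by group
      rw [h1, hwconj, ← hu]; group
    have hq : w * w * x⁻¹ ∈ (P : Subgroup G) := mul_mem (mul_mem hwP hwP) (inv_mem hx)
    have hw'P : (w * w * x⁻¹) ^ (k + 1) ∈ (P : Subgroup G) := pow_mem hq _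
    have hw'2 : (w * w * x⁻¹) ^ (k + 1) * (w * w * x⁻¹) ^ (k + 1) = w * w * x⁻¹ := hsq _ hq
    have hw'conj : (w * w * x⁻¹) ^ (k + 1) * τ * ((w * w * x⁻¹) ^ (k + 1))⁻¹ = v := by
      rw [hconjP _ hw'P, hw'2, hww]
      have e1 : τ * x⁻¹ * τ⁻¹ = x := by
        have h := hinv x⁻¹ (inv_mem hx)
        rw [inv_inv] at h
        exact h
      calc u * τ * x⁻¹ * τ = u * (τ * x⁻¹ * τ⁻¹) * (τ * τ) := by group
        _ = u * x := by rw [e1, hττ, mul_one]
        _ = u * (u * v) := by rw [hab']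
        _ = (u * u) * v := by group
        _ = v := by rw [huu, one_mul]
    have hdC : ((w * w * x⁻¹) ^ (k + 1))⁻¹ * b ∈ C := by
      rw [memC]
      have h1 : τ * (((w * w * x⁻¹) ^ (k + 1))⁻¹ * b)
          = ((w * w * x⁻¹) ^ (k + 1))⁻¹ *
            ((w * w * x⁻¹) ^ (k + 1) * τ * ((w * w * x⁻¹) ^ (k + 1))⁻¹) * b := by group
      rw [h1, hw'conj, ← hv]; group
    refine ⟨(⟨w, hwP⟩, ⟨w⁻¹ * a, hcC⟩, ⟨((w * w * x⁻¹) ^ (k + 1))⁻¹ * b, hdC⟩), ?_⟩
    apply Subtype.ext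
    show (w * (w⁻¹ * a), (w * w * x⁻¹) ^ (k + 1) * (((w * w * x⁻¹) ^ (k + 1))⁻¹ * b)) = (a, b)
    rw [mul_inv_cancel_left, mul_inv_cancel_left]
  have hcard := Nat.card_eq_of_bijective Ψ ⟨hΨinj, hΨsurj⟩
  rw [← hcard, Nat.card_prod, Nat.card_prod, hP, pow_two]

end Cfsg.Agent.H40.BRG2
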