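import Mathlib

set_option autoImplicit false

/-!
# S0999 piece TBG3 (helper40 for helper21): `C(τ) ⊓ N(P)` is cyclic of order `e`
-/

namespace Cfsg.Agent.H40.BRG3

theorem centralizer_inf_normalizer {G : Type*} [Group G] [Finite G] (p : ℕ) [Fact p.Prime]
    (hp2 : p ≠ 2) (P : Sylow p G) (hP : Nat.card (P : Subgroup G) = p)
    (hC : Subgroup.centralizer ((P : Subgroup G) : Set G) = (P : Subgroup G))
    (τ : G) (hτ : orderOf τ = 2) (hinv : ∀ x ∈ (P : Subgroup G), τ * x * τ⁻¹ = x⁻¹)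
    (e : ℕ) (he : Nat.card (Subgroup.normalizer ((P : Subgroup G) : Set G)) = p * e) :
    Nat.card ↥(Subgroup.centralizer ({τ} : Set G) ⊓
        Subgroup.normalizer ((P : Subgroup G) : Set G)) = e ∧
      IsCyclic ↥(Subgroup.centralizer ({τ} : Set G) ⊓
        Subgroup.normalizer ((P : Subgroup G) : Set G)) := by
  classical
  set N : Subgroup G := Subgroup.normalizer ((P : Subgroup G) : Set G) with hN
  set C : Subgroup G := Subgroup.centralizer ({τ} : Set G) with hCdef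
  have hp : p.Prime := Fact.out
  have hτ2 : τ ^ 2 = 1 := by rw [← hτ]; exact pow_orderOf_eq_one τ
  have hττ : τ * τ = 1 := by rw [← pow_two]; exact hτ2
  have hτinv : τ⁻¹ = τ := inv_eq_of_mul_eq_one_left hττ
  have memC : ∀ g : G, g ∈ C ↔ τ * g = g * τ := by
    intro g
    rw [hCdef, Subgroup.mem_centralizer_iff]
    simp
  have hPN : (P : Subgroup G) ≤ N := Subgroup.le_normalizer
  have hpowp : ∀ x ∈ (P : Subgroup G), x ^ p = 1 := by
    intro x hx
    have h := pow_card_eq_one' (G := (P : Subgroup G)) (x := ⟨x, hx⟩)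
    rw [hP] at h
    have h2 := congrArg Subtype.val h
    simpa using h2
  -- elements of `P ∩ C(τ)` are trivial
  have hPC : ∀ x ∈ (P : Subgroup G), x ∈ C → x = 1 := by
    intro x hx hxC
    have h1 := hinv x hx
    have h2 : τ * x * τ⁻¹ = x := by rw [(memC x).mp hxC]; group
    have h3 : x * x = 1 := by
      have h0 : x⁻¹ = x := h1.symm.trans h2
      calc x * x = x⁻¹ * x := by rw [h0]
        _ = 1 := by group
    have h4 : x ^ 2 = 1 := by rw [pow_two]; exact h3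
    have h5 : x ^ p = 1 := hpowp x hx
    have hcop : Nat.gcd 2 p = 1 := by
      have : Nat.Coprime 2 p := by
        rw [Nat.coprime_primes Nat.prime_two hp]; exact fun h => hp2 h.symm
      exact this
    have h6 := orderOf_dvd_of_pow_eq_one h4
    have h7 := orderOf_dvd_of_pow_eq_one h5
    have h8 : orderOf x ∣ Nat.gcd 2 p := Nat.dvd_gcd h6 h7
    rw [hcop] at h8
    exact orderOf_eq_one_iff.mp (Nat.dvd_one.mp h8)
  -- for `g ∈ N`, the element `g τ g⁻¹ τ⁻¹` lies in `P`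
  have hcommP : ∀ g ∈ N, g * τ * g⁻¹ * τ⁻¹ ∈ (P : Subgroup G) := by
    intro g hg
    rw [← hC, Subgroup.mem_centralizer_iff]
    intro x hx
    have hw : g⁻¹ * x⁻¹ * g ∈ (P : Subgroup G) := by
      have h1 := (Subgroup.mem_normalizer_iff.mp (inv_mem hg)) x⁻¹
      rw [inv_inv] at h1
      exact h1.mp (inv_mem hx)
    have e1 : τ * x = x⁻¹ * τ := by
      have h := hinv x hx
      calc τ * x = (τ * x * τ⁻¹) * τ := by group
        _ = x⁻¹ * τ := by rw [h]
    have e2 : τ * (g⁻¹ * x⁻¹ * g) = (g⁻¹ * x⁻¹ * g)⁻¹ * τ := by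
      have h := hinv _ hw
      calc τ * (g⁻¹ * x⁻¹ * g) = (τ * (g⁻¹ * x⁻¹ * g) * τ⁻¹) * τ := by group
        _ = (g⁻¹ * x⁻¹ * g)⁻¹ * τ := by rw [h]
    rw [hτinv]
    symm
    calc g * τ * g⁻¹ * τ * x = g * τ * g⁻¹ * (τ * x) := by group
      _ = g * τ * g⁻¹ * (x⁻¹ * τ) := by rw [e1]
      _ = g * (τ * (g⁻¹ * x⁻¹ * g)) * g⁻¹ * τ := by group
      _ = g * ((g⁻¹ * x⁻¹ * g)⁻¹ * τ) * g⁻¹ * τ := by rw [e2]
      _ = x * (g * τ * g⁻¹ * τ) := by group
  -- squaring is onto `P`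
  obtain ⟨k, hk⟩ : ∃ k, p = 2 * k + 1 := by
    rcases hp.eq_two_or_odd with h | h
    · exact absurd h hp2
    · exact ⟨p / 2, by omega⟩
  -- the product map `P × R → N` is bijective
  let Φ : ↥(P : Subgroup G) × ↥(C ⊓ N) → ↥N := fun zr =>
    ⟨zr.1.1 * zr.2.1, mul_mem (hPN zr.1.2) zr.2.2.2⟩
  have hΦinj : Function.Injective Φ := by
    rintro ⟨⟨z, hz⟩, ⟨r, hr⟩⟩ ⟨⟨z', hz'⟩, ⟨r', hr'⟩⟩ h
    have h1 : z * r = z' * r' := congrArg Subtype.val h
    have h2 : z'⁻¹ * z = r' * r⁻¹ := by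
      calc z'⁻¹ * z = z'⁻¹ * (z * r) * r⁻¹ := by group
        _ = r' * r⁻¹ := by rw [h1]; group
    have h3 : z'⁻¹ * z ∈ (P : Subgroup G) := mul_mem (inv_mem hz') hz
    have h4 : z'⁻¹ * z ∈ C := by
      rw [h2]; exact mul_mem hr'.1 (inv_mem hr.1)
    have h5 := hPC _ h3 h4
    have hzz : z = z' := by
      calc z = z' * (z'⁻¹ * z) := by group
        _ = z' := by rw [h5, mul_one]
    subst hzz
    have hrr : r = r' := mul_left_cancel h1
    subst hrr
    rfl
  have hΦsurj : Function.Surjective Φ := by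
    rintro ⟨g, hg⟩
    have hy := hcommP g hg
    set y := g * τ * g⁻¹ * τ⁻¹ with hydef
    have hzP : y ^ (k + 1) ∈ (P : Subgroup G) := pow_mem hy _
    have hzz : y ^ (k + 1) * y ^ (k + 1) = y := by
      have h1 : y ^ (k + 1) * y ^ (k + 1) = y ^ p * y := by
        rw [← pow_add, ← pow_succ, hk]
        congr 1
        omega
      rw [h1, hpowp y hy, one_mul]
    set z := y ^ (k + 1) with hzdef
    have hzτ : τ * z⁻¹ * τ⁻¹ = z := by
      have h := hinv z⁻¹ (inv_mem hzP)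
      rw [inv_inv] at h
      exact h
    have hconj : z * τ * z⁻¹ = g * τ * g⁻¹ := by
      have h1 : z * τ * z⁻¹ = z * (τ * z⁻¹ * τ⁻¹) * τ := by group
      rw [h1, hzτ, hzz, hydef]
      group
    have hrC : z⁻¹ * g ∈ C := by
      rw [memC]
      have h1 : τ * (z⁻¹ * g) = z⁻¹ * (z * τ * z⁻¹) * g := by group
      rw [h1, hconj]; group
    have hrN : z⁻¹ * g ∈ N := mul_mem (inv_mem (hPN hzP)) hg
    refine ⟨(⟨z, hzP⟩, ⟨z⁻¹ * g, ⟨hrC, hrN⟩⟩), ?_⟩
    apply Subtype.ext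
    show z * (z⁻¹ * g) = g
    group
  have hcard : Nat.card (↥(P : Subgroup G) × ↥(C ⊓ N)) = Nat.card ↥N :=
    Nat.card_eq_of_bijective Φ ⟨hΦinj, hΦsurj⟩
  rw [Nat.card_prod, hP, he] at hcard
  have hRcard : Nat.card ↥(C ⊓ N) = e := Nat.eq_of_mul_eq_mul_left hp.pos hcard
  refine ⟨hRcard, ?_⟩
  -- cyclicity: `R` embeds in `MulAut P`
  have hPcyc : IsCyclic ↥(P : Subgroup G) := isCyclic_of_prime_card hP
  have hZcyc : IsCyclic (ZMod (Nat.card (P : Subgroup G)))ˣ :=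
    ZMod.isCyclic_units_prime (by rw [hP]; exact hp)
  have hAcyc : IsCyclic (MulAut ↥(P : Subgroup G)) :=
    isCyclic_of_injective (IsCyclic.mulAutMulEquiv ↥(P : Subgroup G)).toMonoidHom
      (IsCyclic.mulAutMulEquiv ↥(P : Subgroup G)).injective
  let f : ↥(C ⊓ N) →* MulAut ↥(P : Subgroup G) :=
    (Subgroup.normalizerMonoidHom (P : Subgroup G)).comp
      (Subgroup.inclusion (inf_le_right : C ⊓ N ≤ N))
  have hf : Function.Injective f := by
    rw [injective_iff_map_eq_one]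
    rintro ⟨r, hr⟩ hr1
    have h1 : Subgroup.inclusion (inf_le_right : C ⊓ N ≤ N) ⟨r, hr⟩ ∈
        (Subgroup.normalizerMonoidHom (P : Subgroup G)).ker := hr1
    rw [Subgroup.normalizerMonoidHom_ker, Subgroup.mem_subgroupOf, hC] at h1
    have h2 : r ∈ (P : Subgroup G) := h1
    apply Subtype.ext
    exact hPC r h2 hr.1
  exact isCyclic_of_injective f hf

end Cfsg.Agent.H40.BRG3
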