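import Mathlib
import Cfsg.Agent.H83.ESDefs
import Cfsg.Agent.H49.PlusModel
import Cfsg.Agent.H49.InvOmega

/-!
# S3084, piece ES-HYP (helper40): a nonsingular quadratic form of plus type over `F_2` is the
standard one.
-/

set_option autoImplicit false

namespace Cfsg.Agent.H40.ES3

open Cfsg.Agent.H83.ES Cfsg.Agent.H49 Module

universe u

theorem aniso_of_noroot : ∀ ζ : ZMod 2, (∀ t : ZMod 2, t ^ 2 + t + ζ ≠ 0) →
    ∀ z₁ z₂ : ZMod 2, z₁ ^ 2 + 1 * z₁ * z₂ + ζ * z₂ ^ 2 = 0 → z₁ = 0 ∧ z₂ = 0 := by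
  decide

theorem disc_ne_zero_two : ∀ ζ : ZMod 2, (1 : ZMod 2) ^ 2 - 4 * ζ ≠ 0 := by
  decide

/-- **ES-HYP.** -/
theorem hyp : StHyp.{u} := by
  intro U _ _ _ n q hV hQ hW
  obtain ⟨W, hWdim, hWts⟩ := hW
  classical
  have hfr : finrank (ZMod 2) U = finrank (ZMod 2) (Fin n ⊕ Fin n → ZMod 2) := by
    rw [hV, finrank_plus]
  obtain ⟨e₀⟩ := FiniteDimensional.nonempty_linearEquiv_of_finrank_eq hfr
  set Q0 : QuadraticForm (ZMod 2) (Fin n ⊕ Fin n → ZMod 2) := q.comp e₀.symm.toLinearMap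
    with hQ0
  have hQ0app : ∀ x, Q0 x = q (e₀.symm x) := fun x => rfl
  have key : ∀ x, (∀ y, QuadraticMap.polar ⇑Q0 x y = 0) → x = 0 := by
    intro x hx
    have h1 : e₀.symm x = 0 := by
      apply hQ.1
      intro y'
      have := hx (e₀ y')
      simp only [QuadraticMap.polar, hQ0app, map_add, LinearEquiv.symm_apply_apply] at this
      exact this
    simpa using congrArg e₀ h1
  have hnd : (QuadraticMap.polarBilin Q0).Nondegenerate := by
    constructor
    · intro x hx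
      exact key x hx
    · intro y hy
      apply key y
      intro x
      rw [QuadraticMap.polar_comm]
      exact hy x
  rcases even_model Q0 hnd with ⟨T, hT⟩ | ⟨ζ, T, hζ, hT⟩
  · refine ⟨e₀ ≪≫ₗ T.symm ≪≫ₗ
      LinearEquiv.sumArrowLequivProdArrow (Fin n) (Fin n) (ZMod 2) (ZMod 2), ?_⟩
    intro u
    have h1 := hT (T.symm (e₀ u))
    rw [LinearEquiv.apply_symm_apply, hQ0app, LinearEquiv.symm_apply_apply] at h1
    rw [h1, QP_apply]
    rfl
  · exfalso
    by_cases hn : n = 0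
    · subst hn
      have := T.finrank_eq
      simp at this
    · set g : U →ₗ[ZMod 2] ((Fin (n - 1) ⊕ Fin (n - 1)) ⊕ Fin 2 → ZMod 2) :=
        (e₀ ≪≫ₗ T.symm).toLinearMap with hg
      have hts : IsTS (QMin (n - 1) (ZMod 2) 1 ζ) (W.map g) := by
        rintro _ ⟨w, hw, rfl⟩
        have h1 := hT (T.symm (e₀ w))
        rw [LinearEquiv.apply_symm_apply, hQ0app, LinearEquiv.symm_apply_apply] at h1
        show QMin (n - 1) (ZMod 2) 1 ζ (T.symm (e₀ w)) = 0
        rw [← h1]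
        exact hWts w hw
      have hdim : finrank (ZMod 2) ↥(W.map g) = n :=
        ((Submodule.equivMapOfInjective g (e₀ ≪≫ₗ T.symm).injective W).finrank_eq.symm).trans
          hWdim
      have := QMin_ts_le (n - 1) 1 ζ (aniso_of_noroot ζ hζ) (disc_ne_zero_two ζ) (W.map g) hts
      omega

example : StHyp.{u} := hyp

end Cfsg.Agent.H40.ES3
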