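import Mathlib
import Cfsg.Agent.H10.HO.Defs2

/-!
Team project S2075 (HO), piece HO-HG: an automorphism fixing `x, z, t` fixes `n`, hence is trivial.
-/

set_option autoImplicit false

namespace Cfsg.Agent.H40.Ho

open Cfsg.Agent.H10.HO

universe u

/-- An automorphism fixing `x, z, t` fixes every word in them. -/
theorem hg_evS_fixed {G : Type u} [Group G] (x z t : G) (β : MulAut G) (hx : β x = x)
    (hz : β z = z) (ht : β t = t) : ∀ w : List ℕ, β (evS x z t w) = evS x z t w := by
  intro w
  induction w with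
  | nil => simp [evS]
  | cons s w ih =>
    match s with
    | 0 => simp [evS, ih, hx]
    | 1 => simp [evS, ih, hx]
    | 2 => simp [evS, ih, hz]
    | 3 => simp [evS, ih, hz]
    | (s + 4) => simp [evS, ih, ht]

/-- HO-HG. -/
theorem hg : StHG.{u} := by
  intro G _ x z t n k D hC hnz hD hA hB hgen β hx hz ht
  have hfix := hg_evS_fixed x z t β hx hz ht
  have key : ∀ d : G, β d = d → β (n * d * n⁻¹) = n * d * n⁻¹ →
      (n⁻¹ * β n) * d = d * (n⁻¹ * β n) := by
    intro d hd hnd
    have h1 : β n * d * (β n)⁻¹ = n * d * n⁻¹ := by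
      rw [← hnd]; simp [map_mul, map_inv, hd]
    have h2 : β n * d = n * d * n⁻¹ * β n := by
      rw [← h1]; group
    calc n⁻¹ * β n * d = n⁻¹ * (β n * d) := by group
      _ = n⁻¹ * (n * d * n⁻¹ * β n) := by rw [h2]
      _ = d * (n⁻¹ * β n) := by group
  have hw0z : (n⁻¹ * β n) * z = z * (n⁻¹ * β n) := by
    apply key z hz
    rw [hnz, map_pow, hz]
  have hw0D : ∀ p ∈ D, (n⁻¹ * β n) * evS x z t p.1 = evS x z t p.1 * (n⁻¹ * β n) := by
    intro p hp
    apply key _ (hfix p.1)
    rw [hD p hp]; exact hfix p.2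
  obtain ⟨a, ha, hw⟩ := hC _ hw0z
  have hw1 : n⁻¹ * β n = 1 := by
    rcases hw with hw | hw
    · by_cases ha0 : a = 0
      · rw [hw, ha0, pow_zero]
      · exfalso
        obtain ⟨p, hp, hne⟩ := hA a (Nat.pos_of_ne_zero ha0) ha
        apply hne
        have h3 := hw0D p hp
        rw [hw] at h3
        exact h3
    · exfalso
      obtain ⟨p, hp, hne⟩ := hB a ha
      apply hne
      have h3 := hw0D p hp
      rw [hw] at h3
      exact h3
  have hn : β n = n := by
    have h4 : β n = n * (n⁻¹ * β n) := by group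
    rw [h4, hw1, mul_one]
  ext g
  have hg : g ∈ Subgroup.closure ({x, z, t, n} : Set G) := by
    rw [hgen]; exact Subgroup.mem_top g
  show β g = g
  induction hg using Subgroup.closure_induction with
  | mem y hy =>
    rcases hy with rfl | rfl | rfl | rfl
    · exact hx
    · exact hz
    · exact ht
    · exact hn
  | one => exact map_one β
  | mul a b _ _ iha ihb => rw [map_mul, iha, ihb]
  | inv a _ iha => rw [map_inv, iha]

example : StHG.{u} := hg

end Cfsg.Agent.H40.Ho
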