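import Cfsg.Agent.H82.JxDefs
import Cfsg.Agent.H14.Basic

/-!
# JX-CNT (piece of the existence of a `J(T)`-component): the counting argument

From the action facts `WFacts Q A W a x`, `A` elementary abelian of largest order in `T`,
`a ∈ A`, `|A| ≤ 2 |A ∩ Q|`: `W = 1` or `|W| = 4` (using the pieces SQ and FUN).
-/

set_option autoImplicit false
open Cfsg

universe u

namespace Cfsg.Agent.H40.Jx

open Cfsg.Agent.H82.Jx

theorem cnt_relIndex_mul_card {G : Type u} [Group G] {H K : Subgroup G} (h : H ≤ K) :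
    H.relIndex K * Nat.card ↥H = Nat.card ↥K := by
  rw [← Subgroup.relIndex_bot_left, ← Subgroup.relIndex_bot_left, mul_comm]
  exact Subgroup.relIndex_mul_relIndex ⊥ H K bot_le h

/-- Product formula when `B` normalizes `F`. -/
theorem cnt_card_sup {G : Type u} [Group G] (B F : Subgroup G)
    (h : B ≤ Subgroup.normalizer (F : Set G)) :
    Nat.card ↥(B ⊔ F) * Nat.card ↥(B ⊓ F) = Nat.card ↥B * Nat.card ↥F := by
  have h1 : F.relIndex (B ⊔ F) * Nat.card ↥F = Nat.card ↥(B ⊔ F) :=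
    cnt_relIndex_mul_card le_sup_right
  have h2 : (B ⊓ F).relIndex B * Nat.card ↥(B ⊓ F) = Nat.card ↥B :=
    cnt_relIndex_mul_card inf_le_left
  have h3 : F.relIndex (B ⊔ F) = F.relIndex B := by
    have h4 := Subgroup.normal_subgroupOf_of_le_normalizer h
    have h5 := Subgroup.normal_subgroupOf_sup_of_le_normalizer h
    exact Nat.card_congr (QuotientGroup.quotientInfEquivProdNormalizerQuotient B F h).toEquiv.symm
  rw [Subgroup.inf_relIndex_left] at h2
  rw [← h1, ← h2, h3]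
  ring

theorem cnt_elemAb {G : Type u} [Group G] (W : Subgroup G)
    (hc : ∀ u ∈ W, ∀ v ∈ W, u * v = v * u) (h2 : ∀ u ∈ W, u * u = 1) :
    IsElementaryAbelian 2 W := by
  refine ⟨?_, fun a ha => by rw [pow_two]; exact h2 a ha⟩
  rw [← Subgroup.le_centralizer_iff_isMulCommutative]
  intro u hu
  rw [Subgroup.mem_centralizer_iff]
  intro v hv
  exact hc v hv u hu

theorem cnt (hSq : StSq.{u}) (hFun : StFun.{u}) : StCnt.{u} := by
  intro G _ _ T Q A W a x hQT hAT hAel hAmax haA hidx F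
  by_cases hW : W = ⊥
  · exact Or.inl hW
  right
  haveI := hAel.1
  have hAc : ∀ b ∈ A, ∀ c ∈ A, b * c = c * b := fun b hb c hc =>
    Subgroup.mul_comm_of_mem_isMulCommutative A hb hc
  have hA2 : ∀ b ∈ A, b * b = 1 := fun b hb => by
    have := hAel.2 b hb
    rwa [pow_two] at this
  have ha2 : a * a = 1 := hA2 a haA
  have hainv : a⁻¹ = a := inv_eq_of_mul_eq_one_right ha2
  have hWel : IsElementaryAbelian 2 W := cnt_elemAb W F.hWc F.hW2
  have hA0el : IsElementaryAbelian 2 (A ⊓ Q) := Cfsg.Agent.H14.elemAb_mono hAel inf_le_left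
  have hWT : W ≤ T := F.hWQ.trans hQT
  -- the subgroup `Y`
  obtain ⟨Y, hYdef⟩ : ∃ Y : Subgroup G,
      Y = W ⊓ Subgroup.centralizer ((A ⊓ Q : Subgroup G) : Set G) := ⟨_, rfl⟩
  have hYW : Y ≤ W := by rw [hYdef]; exact inf_le_left
  have hYmem : ∀ y, y ∈ Y ↔ y ∈ W ∧ ∀ b ∈ A ⊓ Q, b * y = y * b := by
    intro y
    rw [hYdef, Subgroup.mem_inf, Subgroup.mem_centralizer_iff]
    rfl
  have hYx : ∀ y ∈ Y, x * y * x⁻¹ ∈ Y := by
    intro y hy
    obtain ⟨hyW, hyc⟩ := (hYmem y).mp hy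
    refine (hYmem _).mpr ⟨F.hxW y hyW, fun b hb => ?_⟩
    have h1 := F.hbx b hb y hyW
    have h2 : b * y * b⁻¹ = y := by rw [hyc b hb, mul_inv_cancel_right]
    rw [h2, mul_inv_eq_iff_eq_mul] at h1
    exact h1
  have hYa : ∀ y ∈ Y, a * y * a⁻¹ ∈ Y := by
    intro y hy
    obtain ⟨hyW, hyc⟩ := (hYmem y).mp hy
    refine (hYmem _).mpr ⟨F.haW y hyW, fun b hb => ?_⟩
    have hba : b * a = a * b := hAc b hb.1 a haA
    have hby := hyc b hb
    rw [hainv]
    calc b * (a * y * a) = (b * a) * y * a := by group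
      _ = a * (b * y) * a := by rw [hba]; group
      _ = a * y * (b * a) := by rw [hby]; group
      _ = a * y * a * b := by rw [hba]; group
  have hYel : IsElementaryAbelian 2 Y := Cfsg.Agent.H14.elemAb_mono hWel hYW
  -- `Y ⊔ A₀` is elementary abelian in `T`
  have hA0Y : A ⊓ Q ≤ Subgroup.centralizer (Y : Set G) := by
    intro b hb
    rw [Subgroup.mem_centralizer_iff]
    intro y hy
    exact (((hYmem y).mp hy).2 b hb).symm
  have hE1 : Nat.card ↥(Y ⊔ (A ⊓ Q)) ≤ Nat.card ↥A :=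
    hAmax _ (sup_le (hYW.trans hWT) (inf_le_left.trans hAT))
      (Cfsg.Agent.H14.elemAb_sup hYel hA0el hA0Y)
  have hYn : Y ≤ Subgroup.normalizer ((A ⊓ Q : Subgroup G) : Set G) := by
    refine le_trans ?_ (Subgroup.centralizer_le_normalizer _)
    rw [hYdef]
    exact inf_le_right
  have hE2 := cnt_card_sup Y (A ⊓ Q) hYn
  have hpos0 : 0 < Nat.card ↥(A ⊓ Q) := Nat.card_pos
  have hY1 : Nat.card ↥Y ≤ 2 * Nat.card ↥(Y ⊓ (A ⊓ Q)) := by
    have h1 : Nat.card ↥Y * Nat.card ↥(A ⊓ Q) ≤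
        (2 * Nat.card ↥(Y ⊓ (A ⊓ Q))) * Nat.card ↥(A ⊓ Q) := by
      rw [← hE2]
      calc Nat.card ↥(Y ⊔ (A ⊓ Q)) * Nat.card ↥(Y ⊓ (A ⊓ Q))
          ≤ (2 * Nat.card ↥(A ⊓ Q)) * Nat.card ↥(Y ⊓ (A ⊓ Q)) :=
            Nat.mul_le_mul_right _ (hE1.trans hidx)
        _ = _ := by ring
    exact Nat.le_of_mul_le_mul_right h1 hpos0
  have hmemCa : ∀ g, g ∈ Subgroup.centralizer ({a} : Set G) ↔ a * g = g * a := by
    intro g
    rw [Subgroup.mem_centralizer_iff]
    constructor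
    · intro h
      exact h a (Set.mem_singleton a)
    · intro h b hb
      rw [Set.mem_singleton_iff] at hb
      rw [hb]
      exact h
  have hY2 : Y ⊓ (A ⊓ Q) ≤ Y ⊓ Subgroup.centralizer ({a} : Set G) := by
    intro y hy
    refine Subgroup.mem_inf.mpr ⟨hy.1, (hmemCa y).mpr ?_⟩
    exact hAc a haA y hy.2.1
  have hY3 : Nat.card ↥(Y ⊓ (A ⊓ Q)) ≤ Nat.card ↥(Y ⊓ Subgroup.centralizer ({a} : Set G)) :=
    Subgroup.card_le_of_le hY2
  have haa : ∀ y : G, a * (a * y * a⁻¹) * a⁻¹ = y := by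
    intro y
    rw [hainv]
    calc a * (a * y * a) * a = (a * a) * y * (a * a) := by group
      _ = y := by rw [ha2, one_mul, mul_one]
  -- SQ on `Y`
  obtain ⟨hSqY, -⟩ := hSq Y a x (fun y hy z hz => F.hWc y (hYW hy) z (hYW hz))
    (fun y hy => F.hW2 y (hYW hy)) hYa hYx (fun y _ => haa y)
    (fun y hy => F.hx3 y (hYW hy)) (fun y hy => F.hax y (hYW hy))
    (fun y hy => F.hxf y (hYW hy))
  have hd : Nat.card ↥(Y ⊓ Subgroup.centralizer ({a} : Set G)) ≤ 2 := by
    have hdpos : 0 < Nat.card ↥(Y ⊓ Subgroup.centralizer ({a} : Set G)) := Nat.card_pos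
    have h1 : Nat.card ↥(Y ⊓ Subgroup.centralizer ({a} : Set G)) ^ 2 ≤
        2 * Nat.card ↥(Y ⊓ Subgroup.centralizer ({a} : Set G)) := by
      rw [← hSqY]
      exact hY1.trans (Nat.mul_le_mul_left 2 hY3)
    nlinarith
  -- SQ on `W`
  obtain ⟨hSqW, hdec⟩ := hSq W a x F.hWc F.hW2 F.haW F.hxW (fun y _ => haa y) F.hx3 F.hax F.hxf
  -- `W ⊔ C_A(W)` is elementary abelian in `T`
  have hCAel : IsElementaryAbelian 2 (A ⊓ Subgroup.centralizer (W : Set G)) :=
    Cfsg.Agent.H14.elemAb_mono hAel inf_le_left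
  have hE3 : Nat.card ↥(W ⊔ (A ⊓ Subgroup.centralizer (W : Set G))) ≤ Nat.card ↥A :=
    hAmax _ (sup_le hWT (inf_le_left.trans hAT))
      (Cfsg.Agent.H14.elemAb_sup hWel hCAel inf_le_right)
  have hWn : W ≤ Subgroup.normalizer
      ((A ⊓ Subgroup.centralizer (W : Set G) : Subgroup G) : Set G) := by
    refine le_trans ?_ (Subgroup.centralizer_le_normalizer _)
    intro w hw
    rw [Subgroup.mem_centralizer_iff]
    intro c hc
    have h1 := (Subgroup.mem_centralizer_iff.mp hc.2) w hw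
    exact h1.symm
  have hE4 := cnt_card_sup W (A ⊓ Subgroup.centralizer (W : Set G)) hWn
  have hWA : W ⊓ (A ⊓ Subgroup.centralizer (W : Set G)) ≤
      Y ⊓ Subgroup.centralizer ({a} : Set G) := by
    intro w hw
    refine Subgroup.mem_inf.mpr ⟨(hYmem w).mpr ⟨hw.1, fun b hb => ?_⟩, (hmemCa w).mpr ?_⟩
    · exact hAc b hb.1 w hw.2.1
    · exact hAc a haA w hw.2.1
  have hWA' : Nat.card ↥(W ⊓ (A ⊓ Subgroup.centralizer (W : Set G))) ≤ 2 :=
    (Subgroup.card_le_of_le hWA).trans hd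
  -- elements of `A₀` centralizing `U⁺` centralize `W`
  have hcent : (A ⊓ Q) ⊓ Subgroup.centralizer
      ((W ⊓ Subgroup.centralizer ({a} : Set G) : Subgroup G) : Set G) ≤
      A ⊓ Subgroup.centralizer (W : Set G) := by
    intro b hb
    refine Subgroup.mem_inf.mpr ⟨hb.1.1, ?_⟩
    rw [Subgroup.mem_centralizer_iff]
    intro w hw
    obtain ⟨u, hu, v, hv, rfl⟩ := hdec w hw
    have hbc := Subgroup.mem_centralizer_iff.mp hb.2
    have hbu : u * b = b * u := hbc u hu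
    have hbv : v * b = b * v := hbc v hv
    have h1 := F.hbx b hb.1 v hv.1
    have h2 : b * v * b⁻¹ = v := by rw [← hbv, mul_inv_cancel_right]
    rw [h2, mul_inv_eq_iff_eq_mul] at h1
    calc u * (x * v * x⁻¹) * b = u * ((x * v * x⁻¹) * b) := by group
      _ = u * (b * (x * v * x⁻¹)) := by rw [h1]
      _ = (u * b) * (x * v * x⁻¹) := by group
      _ = b * (u * (x * v * x⁻¹)) := by rw [hbu]; group
  -- FUN
  have hUne : W ⊓ Subgroup.centralizer ({a} : Set G) ≠ ⊥ := by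
    intro h
    apply hW
    apply Subgroup.eq_bot_of_card_eq
    rw [hSqW, h, Subgroup.card_bot, one_pow]
  have hfun := hFun (A ⊓ Q) (W ⊓ Subgroup.centralizer ({a} : Set G))
    (fun b hb c hc => hAc b hb.1 c hc.1) (Cfsg.Agent.H14.elemAb_isPGroup hA0el)
    (fun u hu v hv => F.hWc u hu.1 v hv.1) (fun u hu => F.hW2 u hu.1)
    (by
      intro b hb u hu
      refine Subgroup.mem_inf.mpr ⟨F.hbW b hb u hu.1, (hmemCa _).mpr ?_⟩
      have hab : a * b = b * a := hAc a haA b hb.1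
      have hau : a * u = u * a := (hmemCa u).mp hu.2
      have habi : a * b⁻¹ = b⁻¹ * a := by
        rw [eq_inv_mul_iff_mul_eq, ← mul_assoc, ← hab, mul_assoc, mul_inv_cancel, mul_one]
      calc a * (b * u * b⁻¹) = (a * b) * u * b⁻¹ := by group
        _ = b * (a * u) * b⁻¹ := by rw [hab]; group
        _ = b * u * (a * b⁻¹) := by rw [hau]; group
        _ = b * u * b⁻¹ * a := by rw [habi]; group)
    (by
      refine (Subgroup.card_le_of_le ?_).trans hd
      intro u hu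
      refine Subgroup.mem_inf.mpr ⟨(hYmem u).mpr ⟨hu.1.1, fun b hb => ?_⟩, hu.1.2⟩
      exact (Subgroup.mem_centralizer_iff.mp hu.2) b hb)
    hUne
  -- arithmetic
  have hr := cnt_relIndex_mul_card (inf_le_left : (A ⊓ Q) ⊓ Subgroup.centralizer
      ((W ⊓ Subgroup.centralizer ({a} : Set G) : Subgroup G) : Set G) ≤ A ⊓ Q)
  have hc1 : Nat.card ↥((A ⊓ Q) ⊓ Subgroup.centralizer
      ((W ⊓ Subgroup.centralizer ({a} : Set G) : Subgroup G) : Set G)) ≤
      Nat.card ↥(A ⊓ Subgroup.centralizer (W : Set G)) := Subgroup.card_le_of_le hcent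
  have hposC : 0 < Nat.card ↥(A ⊓ Subgroup.centralizer (W : Set G)) := Nat.card_pos
  obtain ⟨r, hrdef⟩ : ∃ r : ℕ, r = ((A ⊓ Q) ⊓ Subgroup.centralizer
      ((W ⊓ Subgroup.centralizer ({a} : Set G) : Subgroup G) : Set G)).relIndex (A ⊓ Q) :=
    ⟨_, rfl⟩
  rw [← hrdef] at hr hfun
  obtain ⟨k, hkdef⟩ : ∃ k : ℕ, k = Nat.card ↥(W ⊓ Subgroup.centralizer ({a} : Set G)) :=
    ⟨_, rfl⟩
  rw [← hkdef] at hfun hSqW
  have hkpos : 0 < k := by rw [hkdef]; exact Nat.card_pos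
  have hW4r : Nat.card ↥W ≤ 4 * r := by
    have h1 : Nat.card ↥W * Nat.card ↥(A ⊓ Subgroup.centralizer (W : Set G)) ≤
        (4 * r) * Nat.card ↥(A ⊓ Subgroup.centralizer (W : Set G)) := by
      rw [← hE4]
      calc Nat.card ↥(W ⊔ (A ⊓ Subgroup.centralizer (W : Set G))) *
            Nat.card ↥(W ⊓ (A ⊓ Subgroup.centralizer (W : Set G)))
          ≤ Nat.card ↥A * 2 := Nat.mul_le_mul hE3 hWA'
        _ ≤ (2 * Nat.card ↥(A ⊓ Q)) * 2 := Nat.mul_le_mul_right 2 hidx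
        _ = 4 * (r * Nat.card ↥((A ⊓ Q) ⊓ Subgroup.centralizer
              ((W ⊓ Subgroup.centralizer ({a} : Set G) : Subgroup G) : Set G))) := by
            rw [hr]; ring
        _ ≤ 4 * (r * Nat.card ↥(A ⊓ Subgroup.centralizer (W : Set G))) :=
            Nat.mul_le_mul_left 4 (Nat.mul_le_mul_left r hc1)
        _ = _ := by ring
    exact Nat.le_of_mul_le_mul_right h1 hposC
  have hk2 : k ≤ 2 := by
    have h1 : k ^ 2 ≤ 2 * k := by
      rw [← hSqW]
      omega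
    nlinarith
  have hk1 : k ≠ 1 := by
    intro h
    apply hW
    apply Subgroup.eq_bot_of_card_eq
    rw [hSqW, h, one_pow]
  have hk : k = 2 := by omega
  rw [hSqW, hk]
  norm_num

example (hSq : StSq.{u}) (hFun : StFun.{u}) : StCnt.{u} := cnt hSq hFun

end Cfsg.Agent.H40.Jx
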