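import Mathlib
import Cfsg.Prelude.Def_LocalStructure
import Cfsg.Prelude.Def_Amalgam
import Cfsg.Agent.H39.CoreOf

set_option autoImplicit false

/-!
# The L-Lemma: existence part (helper40)

`H` is a finite group, `T` a Sylow `p`-subgroup lying in a unique maximal subgroup `M`, with
`H` the normal closure of `T`. The conjugates of `M` are called points.

* weak closure lemmas (`wc_le`, `le_wc`, `wc_mono`, `wc_idem`, `wc_conj`,
  `normalizer_le_normalizer_wc`);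
* points: `pt_dichotomy` (a subgroup containing a Sylow subgroup is everything or lies in the
  point of that Sylow subgroup), `mem_pt_of_conj_eq` (points are self-normalizing),
  `exists_sylow_pt`;
* `exists_Y`: if `A ≤ T` is not in `O_p(H)`, there are a subgroup `Y ≥ A` and a point `P ≥ A`
  with `Y` not in `P`, such that `A ≤ P^y` with `y ∈ Y` forces `y ∈ P`.
-/

namespace Cfsg.Agent.H40.LLem

open Cfsg Cfsg.Agent.H39

variable {H : Type*} [Group H]

local notation "cj(" g ", " Q ")" => Subgroup.map (MulEquiv.toMonoidHom (MulAut.conj g)) Q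
local notation "N(" Q ")" => Subgroup.normalizer (SetLike.coe (Q : Subgroup _))

/-! ### Weak closure -/

theorem wc_le (A R : Subgroup H) : weakClosure A R ≤ R := by
  unfold weakClosure
  exact iSup_le fun g => g.2

theorem le_wc {A R : Subgroup H} {g : H} (h : cj(g, A) ≤ R) : cj(g, A) ≤ weakClosure A R := by
  unfold weakClosure
  exact le_iSup (fun g : {g : H // A.map (MulAut.conj g).toMonoidHom ≤ R} =>
    A.map (MulAut.conj (g : H)).toMonoidHom) ⟨g, h⟩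

theorem wc_le_of_forall {A R E : Subgroup H} (h : ∀ g : H, cj(g, A) ≤ R → cj(g, A) ≤ E) :
    weakClosure A R ≤ E := by
  unfold weakClosure
  exact iSup_le fun g => h g.1 g.2

theorem wc_mono {A R R' : Subgroup H} (h : R ≤ R') : weakClosure A R ≤ weakClosure A R' :=
  wc_le_of_forall fun _ hg => le_wc (hg.trans h)

theorem wc_idem (A R : Subgroup H) : weakClosure A (weakClosure A R) = weakClosure A R :=
  le_antisymm (wc_le _ _) (wc_le_of_forall fun _ hg => le_wc (le_wc hg))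

theorem wc_eq_of_forall {A R E : Subgroup H} (hE : E ≤ R)
    (h : ∀ g : H, cj(g, A) ≤ R → cj(g, A) ≤ E) : weakClosure A R = weakClosure A E :=
  le_antisymm (wc_le_of_forall fun g hg => le_wc (h g hg)) (wc_mono hE)

theorem wc_conj (A R : Subgroup H) (x : H) :
    weakClosure A (cj(x, R)) = cj(x, weakClosure A R) := by
  apply le_antisymm
  · apply wc_le_of_forall
    intro g hg
    have h1 : cj(x⁻¹ * g, A) ≤ R := by
      rw [conjMap_mul]
      have := conjMap_mono (g := x⁻¹) hg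
      rwa [conjMap_inv_conjMap] at this
    have h2 := conjMap_mono (g := x) (le_wc h1)
    rwa [← conjMap_mul, mul_inv_cancel_left] at h2
  · have h0 : ∀ g : H, cj(g, A) ≤ R → cj(x, cj(g, A)) ≤ weakClosure A (cj(x, R)) := by
      intro g hg
      rw [← conjMap_mul]
      apply le_wc
      rw [conjMap_mul]
      exact conjMap_mono hg
    rw [Subgroup.map_le_iff_le_comap]
    apply wc_le_of_forall
    intro g hg
    rw [← Subgroup.map_le_iff_le_comap]
    exact h0 g hg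

theorem normalizer_le_normalizer_wc [Finite H] (A R : Subgroup H) :
    N(R) ≤ N(weakClosure A R) := by
  intro x hx
  rw [← conjMap_eq_self_iff, ← wc_conj, conjMap_of_mem_normalizer hx]

/-! ### Points -/

section Points

variable [Finite H] {p : ℕ} [Fact p.Prime] {T : Sylow p H} {M : Subgroup H}

theorem pt_dichotomy (hmin : IsMinimalOver (T : Subgroup H))
    (hM : IsCoatom M ∧ (T : Subgroup H) ≤ M)
    (U : Subgroup H) (g : H) (hU : cj(g, (T : Subgroup H)) ≤ U) : U = ⊤ ∨ U ≤ cj(g, M) := by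
  by_cases hUt : U = ⊤
  · exact Or.inl hUt
  · right
    have h1 : cj(g⁻¹, U) ≠ ⊤ := by
      intro h
      apply hUt
      have h2 : cj(g, cj(g⁻¹, U)) = cj(g, (⊤ : Subgroup H)) := by rw [h]
      rw [conjMap_conjMap_inv] at h2
      rw [h2]
      exact Subgroup.map_top_of_surjective _ (MulAut.conj g).surjective
    obtain ⟨M₂, hM₂, hle⟩ := (eq_top_or_exists_le_coatom (cj(g⁻¹, U))).resolve_left h1
    have h3 : (T : Subgroup H) ≤ M₂ := by
      have := conjMap_mono (g := g⁻¹) hU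
      rw [conjMap_inv_conjMap] at this
      exact this.trans hle
    obtain ⟨M₀, -, huniq⟩ := hmin.2
    have h4 : M₂ = M := (huniq M₂ ⟨hM₂, h3⟩).trans (huniq M hM).symm
    rw [h4] at hle
    have := conjMap_mono (g := g) hle
    rwa [conjMap_conjMap_inv] at this

theorem normalizer_pt_le (hmin : IsMinimalOver (T : Subgroup H))
    (hM : IsCoatom M ∧ (T : Subgroup H) ≤ M) : N(M) ≤ M := by
  have h0 : cj((1 : H), (T : Subgroup H)) ≤ N(M) := by
    rw [conjMap_one]; exact hM.2.trans Subgroup.le_normalizer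
  rcases pt_dichotomy hmin hM (N(M)) 1 h0 with h | h
  · exfalso
    have hn : M.Normal := Subgroup.normalizer_eq_top_iff.mp h
    have h1 : Subgroup.normalClosure ((T : Subgroup H) : Set H) ≤ M :=
      Subgroup.normalClosure_le_normal hM.2
    rw [hmin.1] at h1
    exact hM.1.1 (top_le_iff.mp h1)
  · rwa [conjMap_one] at h

theorem mem_pt_of_conj_eq (hmin : IsMinimalOver (T : Subgroup H))
    (hM : IsCoatom M ∧ (T : Subgroup H) ≤ M) {g x : H} (h : cj(x, cj(g, M)) = cj(g, M)) :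
    x ∈ cj(g, M) := by
  rw [mem_conjMap]
  apply normalizer_pt_le hmin hM
  rw [← conjMap_eq_self_iff]
  have h1 : cj(g⁻¹ * x * g, M) = cj(g⁻¹, cj(x, cj(g, M))) := by
    rw [conjMap_mul, conjMap_mul]
  rw [h1, h, conjMap_inv_conjMap]

theorem sylIn_pt (hM : IsCoatom M ∧ (T : Subgroup H) ≤ M) (g : H) :
    SylIn p (cj(g, (T : Subgroup H))) (cj(g, M)) := by
  apply sylIn_conjMap
  refine ⟨hM.2, T.isPGroup', ?_⟩
  intro hdvd
  apply T.not_dvd_index
  have := Subgroup.relIndex_mul_index hM.2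
  rw [← this]
  exact Dvd.dvd.mul_right hdvd _

theorem exists_sylow_pt (hM : IsCoatom M ∧ (T : Subgroup H) ≤ M) {E : Subgroup H}
    (hE : IsPGroup p E) {g : H} (hEg : E ≤ cj(g, M)) :
    ∃ x : H, E ≤ cj(x, (T : Subgroup H)) ∧ cj(x, M) = cj(g, M) := by
  have hs := sylIn_pt (T := T) hM g
  obtain ⟨h, hh, hq⟩ := exists_conj_mem_of_isPGroup hs.1 hs.2.1 hs.2.2 hEg hE
  refine ⟨h⁻¹ * g, ?_, ?_⟩
  · rw [conjMap_mul]
    intro q hq'
    rw [mem_conjMap]
    simpa using hq q hq'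
  · rw [conjMap_mul]
    exact conjMap_eq_of_mem (inv_mem hh)

theorem pCore_le_conj (T : Sylow p H) (g : H) : pCore p H ≤ cj(g, (T : Subgroup H)) :=
  pCore_le_sylow (g • T)

theorem conj_pCore (g : H) : cj(g, pCore p H) = pCore p H := by
  apply conjMap_of_mem_normalizer
  rw [Subgroup.normalizer_eq_top_iff.mpr (pCore_normal' p)]
  trivial

/-- The family of weakly closed `p`-subgroups lying in a point that does not contain their
normalizer. -/
def QFam (p : ℕ) (M A : Subgroup H) : Set (Subgroup H) :=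
  {E | IsPGroup p E ∧ weakClosure A E = E ∧ ∃ g : H, E ≤ cj(g, M) ∧ ¬ N(E) ≤ cj(g, M)}

theorem claim1 (hmin : IsMinimalOver (T : Subgroup H))
    (hM : IsCoatom M ∧ (T : Subgroup H) ≤ M) {A : Subgroup H} (hAT : A ≤ (T : Subgroup H))
    (hA : ¬ A ≤ pCore p H) {E : Subgroup H} (hEp : IsPGroup p E) (hWE : weakClosure A E = E)
    {x : H} (hET : E ≤ cj(x, (T : Subgroup H))) (hN : ¬ N(E) ≤ cj(x, M)) :
    ∃ h : H, cj(h, A) ≤ cj(x, (T : Subgroup H)) ⊓ N(E) ∧ ¬ cj(h, A) ≤ E := by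
  by_contra hcon
  push Not at hcon
  have hT₁p : IsPGroup p (cj(x, (T : Subgroup H))) := isPGroup_conjMap T.isPGroup'
  have hER : E ≤ cj(x, (T : Subgroup H)) ⊓ N(E) := le_inf hET Subgroup.le_normalizer
  have hW : weakClosure A (cj(x, (T : Subgroup H)) ⊓ N(E)) = E := by
    rw [wc_eq_of_forall hER hcon, hWE]
  have h1 : cj(x, (T : Subgroup H)) ⊓ N(cj(x, (T : Subgroup H)) ⊓ N(E)) ≤
      cj(x, (T : Subgroup H)) ⊓ N(E) := by
    refine le_inf inf_le_left ?_
    have := normalizer_le_normalizer_wc A (cj(x, (T : Subgroup H)) ⊓ N(E))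
    rw [hW] at this
    exact inf_le_right.trans this
  have h2 : cj(x, (T : Subgroup H)) ⊓ N(E) = cj(x, (T : Subgroup H)) := by
    by_contra hne
    have hlt : cj(x, (T : Subgroup H)) ⊓ N(E) < cj(x, (T : Subgroup H)) :=
      lt_of_le_of_ne inf_le_left hne
    have := lt_inf_normalizer hT₁p hlt
    exact (not_le_of_gt this) h1
  have h3 : cj(x, (T : Subgroup H)) ≤ N(E) := by rw [← h2]; exact inf_le_right
  rcases pt_dichotomy hmin hM (N(E)) x h3 with h | h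
  · have hEn : E.Normal := Subgroup.normalizer_eq_top_iff.mp h
    have hEc : E ≤ pCore p H := le_pCore hEn hEp
    apply hA
    have h4 : cj(x, A) ≤ E := hcon x (by rw [h2]; exact conjMap_mono hAT)
    have h5 := conjMap_mono (g := x⁻¹) (h4.trans hEc)
    rw [conjMap_inv_conjMap, conj_pCore] at h5
    exact h5
  · exact hN h

/-- The family used in the two-point argument. -/
def RFam (p : ℕ) (Y M₁ : Subgroup H) (Φ : Subgroup H → Prop) : Set (Subgroup H) :=
  {R | IsPGroup p R ∧ R ≤ Y ∧ Φ R ∧ ∃ a ∈ Y, ∃ b ∈ Y, cj(a, M₁) ≠ cj(b, M₁) ∧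
    R ≤ cj(a, M₁) ∧ R ≤ cj(b, M₁)}

theorem two_points (Y M₁ : Subgroup H) (Φ : Subgroup H → Prop)
    (hΦ : ∀ R R' : Subgroup H, R ≤ R' → Φ R → Φ R') (R : Subgroup H)
    (hmax : Maximal (· ∈ RFam p Y M₁ Φ) R) :
    ∃ c ∈ Y, R ≤ cj(c, M₁) ∧ ¬ N(R) ≤ cj(c, M₁) := by
  obtain ⟨hRp, hRY, hRΦ, a, ha, b, hb, hab, hRa, hRb⟩ := hmax.prop
  have grow : ∀ c ∈ Y, R ≤ cj(c, M₁) → ¬ SylIn p R (Y ⊓ cj(c, M₁)) →
      ∃ R2 : Subgroup H, IsPGroup p R2 ∧ R < R2 ∧ R2 ≤ Y ⊓ cj(c, M₁) ∧ R2 ≤ N(R) := by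
    intro c _ hRc hns
    obtain ⟨S, hS, hRS⟩ := exists_sylIn_ge hRp (le_inf hRY hRc)
    have hlt : R < S := lt_of_le_of_ne hRS (fun h => hns (h ▸ hS))
    have h1 := lt_inf_normalizer hS.2.1 hlt
    exact ⟨S ⊓ N(R), hS.2.1.to_le inf_le_left, h1, inf_le_left.trans hS.1, inf_le_right⟩
  by_cases hSa : SylIn p R (Y ⊓ cj(a, M₁))
  · by_cases hSb : SylIn p R (Y ⊓ cj(b, M₁))
    · refine ⟨a, ha, hRa, ?_⟩
      have hy : b * a⁻¹ ∈ Y := mul_mem hb (inv_mem ha)
      have h1 : cj(b * a⁻¹, Y ⊓ cj(a, M₁)) = Y ⊓ cj(b, M₁) := by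
        rw [inf_conjMap, conjMap_eq_of_mem hy, ← conjMap_mul, inv_mul_cancel_right]
      have h2 : SylIn p (cj(b * a⁻¹, R)) (Y ⊓ cj(b, M₁)) := h1 ▸ sylIn_conjMap hSa (b * a⁻¹)
      obtain ⟨c, hc, hcR⟩ := sylIn_conj_eq h2 hSb
      have hn : c * (b * a⁻¹) ∈ N(R) := by
        rw [← conjMap_eq_self_iff, conjMap_mul]; exact hcR
      intro hle
      have h3 : c * (b * a⁻¹) ∈ cj(a, M₁) := hle hn
      have h4 : cj(c * (b * a⁻¹), cj(a, M₁)) = cj(a, M₁) := conjMap_eq_of_mem h3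
      have h5 : cj(c * (b * a⁻¹), cj(a, M₁)) = cj(b, M₁) := by
        rw [conjMap_mul, ← conjMap_mul (b * a⁻¹) a, inv_mul_cancel_right]
        exact conjMap_eq_of_mem hc.2
      exact hab (h4.symm.trans h5)
    · obtain ⟨R2, hp, hlt, hle, hN⟩ := grow b hb hRb hSb
      refine ⟨a, ha, hRa, fun hNa => ?_⟩
      have hmem : R2 ∈ RFam p Y M₁ Φ :=
        ⟨hp, hle.trans inf_le_left, hΦ R R2 hlt.le hRΦ, a, ha, b, hb, hab, hN.trans hNa,
          hle.trans inf_le_right⟩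
      exact (not_le_of_gt hlt) (hmax.le_of_ge hmem hlt.le)
  · obtain ⟨R2, hp, hlt, hle, hN⟩ := grow a ha hRa hSa
    refine ⟨b, hb, hRb, fun hNb => ?_⟩
    have hmem : R2 ∈ RFam p Y M₁ Φ :=
      ⟨hp, hle.trans inf_le_left, hΦ R R2 hlt.le hRΦ, a, ha, b, hb, hab,
        hle.trans inf_le_right, hN.trans hNb⟩
    exact (not_le_of_gt hlt) (hmax.le_of_ge hmem hlt.le)

theorem claim2 (hM : IsCoatom M ∧ (T : Subgroup H) ≤ M) {A E : Subgroup H}
    (hEmax : Maximal (· ∈ QFam p M A) E) {x h : H} (hET : E ≤ cj(x, (T : Subgroup H)))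
    (hA'R : cj(h, A) ≤ cj(x, (T : Subgroup H)) ⊓ N(E)) (hA'E : ¬ cj(h, A) ≤ E) :
    ∀ y ∈ N(E), cj(h, A) ≤ cj(y, cj(x, M)) → cj(y, cj(x, M)) = cj(x, M) := by
  intro y₀ hy₀ hAy₀
  by_contra hne
  obtain ⟨hEp, hWE, -⟩ := hEmax.prop
  have hT₁p : IsPGroup p (cj(x, (T : Subgroup H))) := isPGroup_conjMap T.isPGroup'
  have hT₁M : cj(x, (T : Subgroup H)) ≤ cj(x, M) := conjMap_mono hM.2
  have hΦ : ∀ R R' : Subgroup H, R ≤ R' → (E ≤ R ∧ ∃ y ∈ N(E), cj(y, cj(h, A)) ≤ R) →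
      (E ≤ R' ∧ ∃ y ∈ N(E), cj(y, cj(h, A)) ≤ R') :=
    fun R R' hRR' ⟨h1, y, hy, h2⟩ => ⟨h1.trans hRR', y, hy, h2.trans hRR'⟩
  have hR₀ : E ⊔ cj(h, A) ∈ RFam p (N(E)) (cj(x, M))
      (fun R => E ≤ R ∧ ∃ y ∈ N(E), cj(y, cj(h, A)) ≤ R) := by
    have hle : E ⊔ cj(h, A) ≤ cj(x, (T : Subgroup H)) := sup_le hET (hA'R.trans inf_le_left)
    refine ⟨hT₁p.to_le hle, sup_le Subgroup.le_normalizer (hA'R.trans inf_le_right),
      ⟨le_sup_left, 1, one_mem _, ?_⟩, 1, one_mem _, y₀, hy₀, ?_, ?_, ?_⟩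
    · rw [conjMap_one]; exact le_sup_right
    · rw [conjMap_one]; exact fun h => hne h.symm
    · rw [conjMap_one]; exact hle.trans hT₁M
    · refine sup_le ?_ hAy₀
      have := conjMap_mono (g := y₀) (hET.trans hT₁M)
      rwa [conjMap_of_mem_normalizer hy₀] at this
  obtain ⟨R, -, hRmax⟩ := (Set.toFinite (RFam p (N(E)) (cj(x, M))
      (fun R => E ≤ R ∧ ∃ y ∈ N(E), cj(y, cj(h, A)) ≤ R))).exists_le_maximal hR₀
  obtain ⟨hRp, hRY, ⟨hER, y₁, hy₁, hy₁R⟩, -⟩ := hRmax.prop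
  obtain ⟨c, hc, hRc, hNRc⟩ := two_points (N(E)) (cj(x, M)) _ hΦ R hRmax
  have hE' : weakClosure A R ∈ QFam p M A := by
    refine ⟨hRp.to_le (wc_le A R), wc_idem A R, c * x, ?_, ?_⟩
    · rw [conjMap_mul]; exact (wc_le A R).trans hRc
    · rw [conjMap_mul]; exact fun hle => hNRc ((normalizer_le_normalizer_wc A R).trans hle)
  have hEE' : E ≤ weakClosure A R := by
    have := wc_mono (A := A) hER
    rwa [hWE] at this
  have hE'E : weakClosure A R ≤ E := hEmax.le_of_ge hE' hEE'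
  apply hA'E
  have h1 : cj(y₁, cj(h, A)) ≤ E := by
    have : cj(y₁ * h, A) ≤ weakClosure A R := le_wc (by rw [conjMap_mul]; exact hy₁R)
    rw [conjMap_mul] at this
    exact this.trans hE'E
  have h2 := conjMap_mono (g := y₁⁻¹) h1
  rw [conjMap_inv_conjMap, conjMap_of_mem_normalizer (inv_mem hy₁)] at h2
  exact h2

theorem exists_Y (hmin : IsMinimalOver (T : Subgroup H))
    (hM : IsCoatom M ∧ (T : Subgroup H) ≤ M) {A : Subgroup H} (hAT : A ≤ (T : Subgroup H))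
    (hA : ¬ A ≤ pCore p H) :
    ∃ (Y : Subgroup H) (g : H), A ≤ Y ∧ A ≤ cj(g, M) ∧ ¬ Y ≤ cj(g, M) ∧
      ∀ y ∈ Y, A ≤ cj(y, cj(g, M)) → y ∈ cj(g, M) := by
  have hbot : (⊥ : Subgroup H) ∈ QFam p M A := by
    refine ⟨IsPGroup.of_bot, le_bot_iff.mp (wc_le A ⊥), 1, bot_le, ?_⟩
    rw [conjMap_one]
    intro hle
    have h1 : N((⊥ : Subgroup H)) = ⊤ := Subgroup.normalizer_eq_top_iff.mpr inferInstance
    rw [h1] at hle
    exact hM.1.1 (top_le_iff.mp hle)
  obtain ⟨E, -, hEmax⟩ := (Set.toFinite (QFam p M A)).exists_le_maximal hbot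
  obtain ⟨hEp, hWE, g₁, hEg₁, hNg₁⟩ := hEmax.prop
  obtain ⟨x, hEx, hxg⟩ := exists_sylow_pt (T := T) hM hEp hEg₁
  rw [← hxg] at hNg₁
  obtain ⟨h, hA'R, hA'E⟩ := claim1 hmin hM hAT hA hEp hWE hEx hNg₁
  have hc2 := claim2 hM hEmax hEx hA'R hA'E
  refine ⟨cj(h⁻¹, N(E)), h⁻¹ * x, ?_, ?_, ?_, ?_⟩
  · have := conjMap_mono (g := h⁻¹) (hA'R.trans inf_le_right)
    rwa [conjMap_inv_conjMap] at this
  · rw [conjMap_mul]
    have := conjMap_mono (g := h⁻¹) ((hA'R.trans inf_le_left).trans (conjMap_mono hM.2))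
    rwa [conjMap_inv_conjMap] at this
  · rw [conjMap_mul]
    intro hle
    apply hNg₁
    have := conjMap_mono (g := h) hle
    rwa [conjMap_conjMap_inv, conjMap_conjMap_inv] at this
  · intro y' hy' hAy'
    rw [conjMap_mul] at hAy' ⊢
    rw [mem_conjMap] at hy' ⊢
    rw [inv_inv] at hy' ⊢
    have h1 : cj(h, A) ≤ cj(h * y' * h⁻¹, cj(x, M)) := by
      have h2 := conjMap_mono (g := h) hAy'
      have h3 : cj(h * y' * h⁻¹, cj(x, M)) = cj(h, cj(y', cj(h⁻¹, cj(x, M)))) := by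
        rw [conjMap_mul, conjMap_mul]
      rw [h3]; exact h2
    exact mem_pt_of_conj_eq hmin hM (hc2 _ hy' h1)

end Points

end Cfsg.Agent.H40.LLem
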