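import Mathlib
import Cfsg.Prelude.Def_CaseTheorems
import Cfsg.Agent.H3.MaxClass3
import Cfsg.Agent.H3.Dihedral

/-!
# Piece S1238-P1: a 2-group with a self-centralizing four-group is dihedral or quasi-dihedral
-/

set_option autoImplicit false

namespace Cfsg.Agent.H40.TwoRank

/-- The quasi-dihedral / abelian-contradiction case: `t² = 1`, `t x t⁻¹ = x^(2^(n-2)-1)`. -/
theorem qd_case {S : Type*} [Group S] [Finite S] (n : ℕ) (hn : 3 ≤ n)
    (hcard : Nat.card S = 2 ^ n) (x t : S) (hidx : (Subgroup.zpowers x).index = 2)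
    (ht : t ∉ Subgroup.zpowers x) (hox : orderOf x = 2 ^ (n - 1))
    (hcen : Nat.card (Subgroup.center S) = 2) (ht2 : t * t = 1)
    (hconj : t * x * t⁻¹ = x ^ (2 ^ (n - 2) - 1)) : Cfsg.IsQuasiDihedral S := by
  have h2 : Fact (Nat.Prime 2) := ⟨Nat.prime_two⟩
  have ht1 : t ≠ 1 := fun h => ht (h ▸ Subgroup.one_mem _)
  have hot : orderOf t = 2 := orderOf_eq_prime (by rw [pow_two]; exact ht2) ht1
  by_cases hn4 : 4 ≤ n
  · refine ⟨n - 1, by omega, ?_, x, t, hox, hot, ?_⟩
    · rw [hcard]; congr 1; omega
    · rw [hconj]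
      have h3 : n - 1 - 1 = n - 2 := by omega
      rw [h3]
  · exfalso
    have hn3 : n = 3 := by omega
    subst hn3
    have hconj' : t * x * t⁻¹ = x := by
      rw [hconj]; norm_num
    have htx : t * x = x * t := by
      calc t * x = t * x * t⁻¹ * t := by group
        _ = x * t := by rw [hconj']
    have hxc : x ∈ Subgroup.center S := by
      apply Cfsg.Agent.H3.mem_center_of_index_two (Subgroup.zpowers x) hidx ht _ htx
      intro c hc
      obtain ⟨i, rfl⟩ := Subgroup.mem_zpowers_iff.mp hc
      exact ((Commute.refl x).zpow_left i).eq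
    have h3 : (⟨x, hxc⟩ : Subgroup.center S) ^ Nat.card (Subgroup.center S) = 1 :=
      pow_card_eq_one'
    rw [hcen] at h3
    have h4 : x ^ 2 = 1 := by
      have h5 := congrArg Subtype.val h3
      simpa only [Subgroup.coe_pow, Subgroup.coe_one] using h5
    have h5 : orderOf x ∣ 2 := orderOf_dvd_of_pow_eq_one h4
    rw [hox] at h5
    norm_num at h5

theorem mc_two {S : Type*} [Group S] [Finite S] (hS : IsPGroup 2 S) (E : Subgroup S)
    (hE : Nat.card E = 4) (hexp : ∀ e ∈ E, e * e = 1)
    (hC : Subgroup.centralizer (E : Set S) = E) :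
    (∃ m : ℕ, 2 ≤ m ∧ Nonempty (S ≃* DihedralGroup m)) ∨ Cfsg.IsQuasiDihedral S := by
  have h2 : Fact (Nat.Prime 2) := ⟨Nat.prime_two⟩
  obtain ⟨n, hcard⟩ := IsPGroup.iff_card.mp hS
  have hEdvd : Nat.card E ∣ Nat.card S := Subgroup.card_subgroup_dvd_card E
  rw [hE, hcard] at hEdvd
  have hn2 : 2 ≤ n := by
    have h3 : (2 : ℕ) ^ 2 ∣ 2 ^ n := by simpa using hEdvd
    exact (Nat.pow_dvd_pow_iff_le_right (by norm_num)).mp h3
  -- two distinct non-identity elements of `E`
  have hEtwo : ∀ r : S, ∃ e ∈ E, e ≠ 1 ∧ e ≠ r := by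
    intro r
    by_contra hcon
    push Not at hcon
    have hss : (E : Set S) ⊆ {1, r} := by
      intro e he
      by_cases h1 : e = 1
      · simp [h1]
      · simp [hcon e he h1]
    have hle : Nat.card E ≤ 2 := by
      calc Nat.card E = (E : Set S).ncard := rfl
        _ ≤ ({1, r} : Set S).ncard := Set.ncard_le_ncard hss (Set.toFinite _)
        _ ≤ ({r} : Set S).ncard + 1 := Set.ncard_insert_le _ _
        _ = 2 := by rw [Set.ncard_singleton]
    omega
  by_cases hn3 : 3 ≤ n
  · -- maximal class
    have hcls := Cfsg.Agent.H3.suzuki_aux 2 n S hcard E (by rw [hE]; norm_num) hC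
    obtain ⟨x, t, hidx, ht, hcx, hcen, hcenle, htt, htx⟩ :=
      Cfsg.Agent.H3.maxclass_two_structure n S hn3 hcard hcls
    have hox : orderOf x = 2 ^ (n - 1) := by rw [← hcx, Nat.card_zpowers]
    obtain ⟨z0, hz0def⟩ : ∃ z0 : S, z0 = x ^ 2 ^ (n - 2) := ⟨_, rfl⟩
    have hpow2 : 2 ^ (n - 2) + 2 ^ (n - 2) = 2 ^ (n - 1) := by
      have h3 : n - 1 = (n - 2) + 1 := by omega
      rw [h3, pow_succ]; ring
    have hz0sq : z0 * z0 = 1 := by
      rw [hz0def, ← pow_add, hpow2, ← hox, pow_orderOf_eq_one]
    have hz0ne : z0 ≠ 1 := by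
      intro h3
      rw [hz0def] at h3
      have h4 := orderOf_dvd_of_pow_eq_one h3
      rw [hox] at h4
      have h5 := (Nat.pow_dvd_pow_iff_le_right (by norm_num : 1 < 2)).mp h4
      omega
    -- involutions of `⟨x⟩`
    have hinvC : ∀ c ∈ Subgroup.zpowers x, c * c = 1 → c = 1 ∨ c = z0 := by
      intro c hc hcc
      have h3 : c ∈ Submonoid.powers x :=
        (isOfFinOrder_of_finite x).mem_powers_iff_mem_zpowers.mpr hc
      obtain ⟨k, rfl⟩ := (Submonoid.mem_powers_iff _ _).mp h3
      rw [← pow_mod_orderOf] at hcc ⊢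
      have hi : k % orderOf x < orderOf x := Nat.mod_lt _ (orderOf_pos x)
      generalize k % orderOf x = i at hcc hi ⊢
      rw [← pow_add] at hcc
      have h4 := orderOf_dvd_of_pow_eq_one hcc
      rw [hox, ← hpow2] at h4
      rw [hox, ← hpow2] at hi
      have h5 : 2 ^ (n - 2) ∣ i := by
        have h6 : 2 ^ (n - 2) * 2 ∣ i * 2 := by
          have e1 : 2 ^ (n - 2) * 2 = 2 ^ (n - 2) + 2 ^ (n - 2) := by ring
          have e2 : i * 2 = i + i := by ring
          rw [e1, e2]; exact h4
        exact Nat.dvd_of_mul_dvd_mul_right (by norm_num) h6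
      obtain ⟨j, rfl⟩ := h5
      have hM : 0 < 2 ^ (n - 2) := by positivity
      have hj : j < 2 := by
        by_contra hj
        have h6 : 2 ^ (n - 2) * 2 ≤ 2 ^ (n - 2) * j := Nat.mul_le_mul_left _ (by omega)
        omega
      interval_cases j
      · left; simp
      · right; rw [hz0def, mul_one]
    have hcenel : ∀ g ∈ Subgroup.center S, g = 1 ∨ g = z0 := by
      intro g hg
      have h3 : (⟨g, hg⟩ : Subgroup.center S) ^ Nat.card (Subgroup.center S) = 1 :=
        pow_card_eq_one'
      rw [hcen] at h3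
      have h4 : g ^ 2 = 1 := by
        have h5 := congrArg Subtype.val h3
        simpa only [Subgroup.coe_pow, Subgroup.coe_one] using h5
      exact hinvC g (hcenle hg) (by rw [← pow_two]; exact h4)
    have hcardS : Nat.card S = 2 * 2 ^ (n - 1) := by
      rw [hcard]
      have h3 : n = (n - 1) + 1 := by omega
      conv_lhs => rw [h3, pow_succ]
      ring
    have hz0x : z0 * x⁻¹ = x ^ (2 ^ (n - 2) - 1) := by
      have h3 : 2 ^ (n - 2) = (2 ^ (n - 2) - 1) + 1 := by
        have : 0 < 2 ^ (n - 2) := by positivity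
        omega
      rw [hz0def]
      conv_lhs => rw [h3, pow_succ]
      group
    -- the two alternatives for the action of `t` on `x`
    have hact : t * x * t⁻¹ = x⁻¹ ∨ t * x * t⁻¹ = x ^ (2 ^ (n - 2) - 1) := by
      rcases hcenel _ htx with h3 | h3
      · left
        exact eq_inv_of_mul_eq_one_left h3
      · right
        rw [← hz0x, ← h3]; group
    rcases hact with hinv | hqd
    · rcases hcenel _ htt with ht2 | ht2
      · -- dihedral
        left
        have hNe : NeZero (2 ^ (n - 1)) := ⟨by positivity⟩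
        exact ⟨2 ^ (n - 1), by
          calc 2 = 2 ^ 1 := by norm_num
            _ ≤ 2 ^ (n - 1) := Nat.pow_le_pow_right (by norm_num) (by omega),
          Cfsg.Agent.H3.dihedral_of_gens (2 ^ (n - 1)) hcardS x t hox ht ht2 hinv⟩
      · -- generalized quaternion: only one involution, contradiction with `E`
        exfalso
        have hinvall : ∀ g : S, g * g = 1 → g = 1 ∨ g = z0 := by
          intro g hg
          by_cases hgC : g ∈ Subgroup.zpowers x
          · exact hinvC g hgC hg
          · exfalso
            have h3 : g * t⁻¹ ∈ Subgroup.zpowers x := by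
              rw [Subgroup.mul_mem_iff_of_index_two hidx]
              constructor
              · intro h; exact absurd h hgC
              · intro h; exact absurd ((Subgroup.zpowers x).inv_mem_iff.mp h) ht
            obtain ⟨i, hi⟩ := Subgroup.mem_zpowers_iff.mp h3
            have h4 : t * x ^ i * t⁻¹ = (x ^ i)⁻¹ := by
              rw [← conj_zpow, hinv, inv_zpow]
            have h5 : g = x ^ i * t := by rw [hi]; group
            have h6 : g * g = z0 := by
              calc g * g = x ^ i * (t * x ^ i * t⁻¹) * (t * t) := by rw [h5]; group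
                _ = z0 := by rw [h4, ht2]; group
            rw [hg] at h6
            exact hz0ne h6.symm
        obtain ⟨e1, he1, he11, -⟩ := hEtwo 1
        obtain ⟨e2, he2, he21, he2e⟩ := hEtwo e1
        rcases hinvall e1 (hexp e1 he1) with h3 | h3
        · exact he11 h3
        · rcases hinvall e2 (hexp e2 he2) with h4 | h4
          · exact he21 h4
          · exact he2e (h4.trans h3.symm)
    · rcases hcenel _ htt with ht2 | ht2
      · right
        exact qd_case n hn3 hcard x t hidx ht hox hcen ht2 hqd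
      · -- replace `t` by `x * t`
        right
        have ht' : x * t ∉ Subgroup.zpowers x := by
          intro h3
          apply ht
          have h4 : t = x⁻¹ * (x * t) := by group
          rw [h4]
          exact Subgroup.mul_mem _ (Subgroup.inv_mem _ (Subgroup.mem_zpowers x)) h3
        have hcomm : Commute x (x ^ (2 ^ (n - 2) - 1)) := (Commute.refl x).pow_right _
        have hconj' : (x * t) * x * (x * t)⁻¹ = x ^ (2 ^ (n - 2) - 1) := by
          calc (x * t) * x * (x * t)⁻¹ = x * (t * x * t⁻¹) * x⁻¹ := by group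
            _ = x * x ^ (2 ^ (n - 2) - 1) * x⁻¹ := by rw [hqd]
            _ = x ^ (2 ^ (n - 2) - 1) := by rw [hcomm.eq]; group
        have hsq' : (x * t) * (x * t) = 1 := by
          have h3 : 2 ^ (n - 2) = (2 ^ (n - 2) - 1) + 1 := by
            have : 0 < 2 ^ (n - 2) := by positivity
            omega
          calc (x * t) * (x * t) = x * (t * x * t⁻¹) * (t * t) := by group
            _ = x * x ^ (2 ^ (n - 2) - 1) * z0 := by rw [hqd, ht2]
            _ = x ^ ((2 ^ (n - 2) - 1) + 1) * z0 := by rw [pow_succ', ]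
            _ = z0 * z0 := by rw [← h3, ← hz0def]
            _ = 1 := hz0sq
        exact qd_case n hn3 hcard x (x * t) hidx ht' hox hcen hsq' hconj'
  · -- `n = 2`: `S = E` is a four-group
    left
    have hn : n = 2 := by omega
    subst hn
    have hEtop : E = ⊤ := by
      apply Subgroup.eq_top_of_card_eq
      rw [hE, hcard]; norm_num
    have hmemE : ∀ g : S, g ∈ E := fun g => by rw [hEtop]; trivial
    obtain ⟨r, -, hr1, -⟩ := hEtwo 1
    have hr2 : r * r = 1 := hexp r (hmemE r)
    have hor : orderOf r = 2 := orderOf_eq_prime (by rw [pow_two]; exact hr2) hr1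
    have hzr : ∀ g ∈ Subgroup.zpowers r, g = 1 ∨ g = r := by
      intro g hg
      have h3 : g ∈ Submonoid.powers r :=
        (isOfFinOrder_of_finite r).mem_powers_iff_mem_zpowers.mpr hg
      obtain ⟨k, rfl⟩ := (Submonoid.mem_powers_iff _ _).mp h3
      rw [← pow_mod_orderOf, hor]
      have hk : k % 2 < 2 := Nat.mod_lt _ (by norm_num)
      interval_cases (k % 2)
      · left; simp
      · right; simp
    obtain ⟨t, -, ht1, htr⟩ := hEtwo r
    have ht : t ∉ Subgroup.zpowers r := by
      intro h3
      rcases hzr t h3 with h4 | h4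
      · exact ht1 h4
      · exact htr h4
    have ht2 : t * t = 1 := hexp t (hmemE t)
    have hcomm : t * r = r * t := by
      have h3 : r ∈ Subgroup.centralizer (E : Set S) := by rw [hC]; exact hmemE r
      exact Subgroup.mem_centralizer_iff.mp h3 t (hmemE t)
    have hconj : t * r * t⁻¹ = r⁻¹ := by
      have h3 : r⁻¹ = r := inv_eq_of_mul_eq_one_left hr2
      rw [h3, hcomm]; group
    exact ⟨2, le_rfl, Cfsg.Agent.H3.dihedral_of_gens 2 (by rw [hcard]; norm_num) r t hor ht ht2
      hconj⟩

end Cfsg.Agent.H40.TwoRank
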