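import Mathlib

/-!
# S5973, piece S5973-ANISOEX (helper40): an anisotropic binary quadratic form exists over every
finite field.
-/

set_option autoImplicit false

namespace Cfsg.Agent.H40.Pt

universe u

/-- **S5973-ANISOEX.** -/
theorem anisoEx : ∀ (F : Type u) [Field F] [Fintype F], ∃ a b : F, ∀ x y : F,
    x ^ 2 + a * x * y + b * y ^ 2 = 0 → x = 0 ∧ y = 0 := by
  intro F _ _
  classical
  by_cases h2 : ringChar F = 2
  · -- characteristic 2: `a = 1`, `b` outside the range of `t ↦ t² + t`
    have : CharP F 2 := ringChar.of_eq h2
    have hni : ¬ Function.Injective (fun t : F => t ^ 2 + t) := by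
      intro hinj
      have h01 : (0 : F) = 1 := by
        apply hinj
        show (0 : F) ^ 2 + 0 = 1 ^ 2 + 1
        have : (1 : F) + 1 = 0 := CharTwo.add_self_eq_zero 1
        rw [one_pow, this]
        ring
      exact zero_ne_one h01
    have hns : ¬ Function.Surjective (fun t : F => t ^ 2 + t) :=
      fun hs => hni (Finite.injective_iff_surjective.mpr hs)
    rw [Function.Surjective] at hns
    push Not at hns
    obtain ⟨b, hb⟩ := hns
    refine ⟨1, b, ?_⟩
    intro x y hxy
    by_cases hy : y = 0
    · subst hy
      refine ⟨?_, rfl⟩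
      have : x ^ 2 = 0 := by simpa using hxy
      exact pow_eq_zero_iff (by norm_num) |>.mp this
    · exfalso
      apply hb (x / y)
      show (x / y) ^ 2 + x / y = b
      have h1 : (x / y) ^ 2 + x / y + b = 0 := by
        field_simp
        linear_combination hxy
      have h3 : (x / y) ^ 2 + x / y = -b := by linear_combination h1
      rw [h3, CharTwo.neg_eq]
  · -- odd characteristic: `a = 0`, `b = -δ` with `δ` a non-square
    obtain ⟨δ, hδ⟩ := FiniteField.exists_nonsquare h2
    refine ⟨0, -δ, ?_⟩
    intro x y hxy
    by_cases hy : y = 0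
    · subst hy
      refine ⟨?_, rfl⟩
      have : x ^ 2 = 0 := by simpa using hxy
      exact pow_eq_zero_iff (by norm_num) |>.mp this
    · exfalso
      apply hδ
      refine ⟨x / y, ?_⟩
      field_simp
      linear_combination -hxy

end Cfsg.Agent.H40.Pt
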