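import Cfsg.Agent.H45.R2Defs

set_option autoImplicit false

/-!
# S1152/S1157 piece R6 (helper40 for helper45): the Bruhat form of `ψ(g)`
-/

open Cfsg Cfsg.Lie Cfsg.Agent.H22 Cfsg.Agent.H22.GEx Cfsg.Agent.H22.Ree Cfsg.Agent.H45.R2 Matrix

namespace Cfsg.Agent.H40.R2

variable {K : Type*} [Field K] [CharP K 3] {e : ℕ} (C : Ctx K e)

omit [CharP K 3] in
theorem mul_uM_0 (g : SpecialLinearGroup (Fin 2) K) (s : K) (i : Fin 2) :
    (g * SL2.uM s).1 i 0 = g.1 i 0 := by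
  rw [Matrix.SpecialLinearGroup.coe_mul]
  simp [SL2.uM, Matrix.mul_apply, Fin.sum_univ_two]

omit [CharP K 3] in
theorem mul_uM_1 (g : SpecialLinearGroup (Fin 2) K) (s : K) (i : Fin 2) :
    (g * SL2.uM s).1 i 1 = g.1 i 0 * s + g.1 i 1 := by
  rw [Matrix.SpecialLinearGroup.coe_mul]
  simp [SL2.uM, Matrix.mul_apply, Fin.sum_univ_two]

omit [CharP K 3] in
theorem dM_mul_0 (c : K) (hc : c ≠ 0) (g : SpecialLinearGroup (Fin 2) K) (j : Fin 2) :
    (dM K c hc * g).1 0 j = c * g.1 0 j := by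
  rw [Matrix.SpecialLinearGroup.coe_mul]
  simp [dM, Matrix.mul_apply, Fin.sum_univ_two]

omit [CharP K 3] in
theorem dM_mul_1 (c : K) (hc : c ≠ 0) (g : SpecialLinearGroup (Fin 2) K) (j : Fin 2) :
    (dM K c hc * g).1 1 j = c⁻¹ * g.1 1 j := by
  rw [Matrix.SpecialLinearGroup.coe_mul]
  simp [dM, Matrix.mul_apply, Fin.sum_univ_two]

omit [CharP K 3] in
theorem sl2_nM_00 : (SL2.nM : SpecialLinearGroup (Fin 2) K).1 0 0 = 0 := by simp [SL2.nM]
omit [CharP K 3] in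
theorem sl2_nM_01 : (SL2.nM : SpecialLinearGroup (Fin 2) K).1 0 1 = 1 := by simp [SL2.nM]
omit [CharP K 3] in
theorem sl2_nM_10 : (SL2.nM : SpecialLinearGroup (Fin 2) K).1 1 0 = -1 := by simp [SL2.nM]
omit [CharP K 3] in
theorem sl2_nM_11 : (SL2.nM : SpecialLinearGroup (Fin 2) K).1 1 1 = 0 := by simp [SL2.nM]

theorem form (hc : CommStmt (K := K)) (hv : ValStmt C) (ht : TorStmt C) : FormStmt C := by
  intro g
  have hd := SL2.det_eq g
  constructor
  · intro h10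
    have h00 : g.1 0 0 ≠ 0 := by
      intro h
      rw [h, h10] at hd
      simp at hd
    have h11 : g.1 1 1 = (g.1 0 0)⁻¹ := by
      rw [h10, mul_zero, sub_zero] at hd
      exact eq_inv_of_mul_eq_one_right hd
    have e1 : g = SL2.uM (g.1 0 0 * g.1 0 1) * dM K (g.1 0 0) h00 := by
      apply SL2.sl_ext
      · rw [SL2.uM_mul_00]; simp [dM]
      · rw [SL2.uM_mul_01]; simp [dM]; field_simp
      · rw [SL2.uM_mul_10]; simp [dM, h10]
      · rw [SL2.uM_mul_11]; simp [dM, h11]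
    conv_lhs => rw [e1]
    rw [psi_mul hc, hv.1, ht]
  · intro h10
    have hcne : -(g.1 1 0)⁻¹ ≠ 0 := neg_ne_zero.mpr (inv_ne_zero h10)
    refine ⟨g.1 0 0 / g.1 1 0, g.1 1 1 / g.1 1 0, -(g.1 1 0)⁻¹, hcne, ?_⟩
    have e1 : g = SL2.uM (g.1 0 0 / g.1 1 0) * (dM K (-(g.1 1 0)⁻¹) hcne * SL2.nM) *
        SL2.uM (g.1 1 1 / g.1 1 0) := by
      apply SL2.sl_ext
      · rw [mul_uM_0, SL2.uM_mul_00, dM_mul_0, dM_mul_1, sl2_nM_00, sl2_nM_10]
        field_simp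
        ring
      · rw [mul_uM_1, SL2.uM_mul_00, SL2.uM_mul_01, dM_mul_0, dM_mul_1, dM_mul_0, dM_mul_1,
          sl2_nM_00, sl2_nM_10, sl2_nM_01, sl2_nM_11]
        field_simp
        linear_combination (-(g.1 1 0)) * hd
      · rw [mul_uM_0, SL2.uM_mul_10, dM_mul_1, sl2_nM_10]
        field_simp
      · rw [mul_uM_1, SL2.uM_mul_10, SL2.uM_mul_11, dM_mul_1, dM_mul_1, sl2_nM_10, sl2_nM_11]
        field_simp
        ring
    have hn : psi C.τ SL2.nM = (C.n0 : GL chevG2.Idx K) := by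
      rw [nM_eq, psi_mul hc, psi_mul hc, hv.1, hv.2, _root_.neg_neg]
      unfold Ctx.n0
      simp only [Subgroup.coe_mul, mul_assoc]
    conv_lhs => rw [e1]
    rw [psi_mul hc, psi_mul hc, psi_mul hc, hv.1, hv.1, ht, hn]
    simp only [mul_assoc]

example (hc : CommStmt (K := K)) (hv : ValStmt C) (ht : TorStmt C) : FormStmt C :=
  Cfsg.Agent.H40.R2.form C hc hv ht

end Cfsg.Agent.H40.R2
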