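import Cfsg.Agent.H45.R2Defs
import Cfsg.Agent.H22.ReeH2

set_option autoImplicit false

/-!
# S1152/S1157 piece R10 (helper40 for helper45): `H¹ = ψ(torus) × ⟨h(-1,-1)⟩`
-/

open Cfsg Cfsg.Lie Cfsg.Agent.H22 Cfsg.Agent.H22.GEx Cfsg.Agent.H22.Ree Cfsg.Agent.H45.R2 Matrix

namespace Cfsg.Agent.H40.R2

variable {K : Type*} [Field K] [CharP K 3]

theorem hform [Fintype K] {m : ℕ} (C : Ctx K (3 ^ m)) (hK : Fintype.card K = 3 ^ (2 * m + 1)) :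
    HFormStmt C := by
  intro h hh
  obtain ⟨s, hs, rfl⟩ := C.exists_of_mem_H1 h hh
  obtain ⟨x, hx, hsx⟩ := sq_or_neg_sq hK s hs
  have hτx : C.τ x ≠ 0 := (map_ne_zero C.τ).mpr hx
  obtain ⟨p, hp_def⟩ : ∃ p : K, p = C.τ x ^ 3 * x⁻¹ := ⟨_, rfl⟩
  have hp : p ≠ 0 := by
    rw [hp_def]; exact mul_ne_zero (pow_ne_zero _ hτx) (inv_ne_zero hx)
  have h1 : C.τ p ^ 3 * p = x ^ 2 := by
    have h0 : C.τ p = C.τ (C.τ x) ^ 3 * (C.τ x)⁻¹ := by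
      rw [hp_def, map_mul, map_pow, map_inv₀]
    rw [h0, mul_pow, C.hτ x, hp_def]
    field_simp
  have h2 : C.τ p * p = C.τ (x ^ 2) := by
    rw [← h1, map_mul, map_pow, C.hτ p, mul_comm]
  have hx2 : x ^ 2 ≠ 0 := pow_ne_zero _ hx
  have hτx2 : C.τ (x ^ 2) ≠ 0 := (map_ne_zero C.τ).mpr hx2
  refine ⟨p, hp, ?_⟩
  rw [h1, h2]
  rcases hsx with rfl | rfl
  · left; rfl
  · right
    apply Units.ext
    rw [Units.val_mul, C.hh_val _ _ ((map_ne_zero C.τ).mpr hs) hs,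
      C.hh_val _ _ (neg_ne_zero.mpr one_ne_zero) (neg_ne_zero.mpr one_ne_zero),
      C.hh_val _ _ hτx2 hx2, dg_mul, map_neg, neg_one_mul, neg_one_mul]

example [Fintype K] {m : ℕ} (C : Ctx K (3 ^ m)) (hK : Fintype.card K = 3 ^ (2 * m + 1)) :
    HFormStmt C := Cfsg.Agent.H40.R2.hform C hK

end Cfsg.Agent.H40.R2
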