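import Mathlib
import Cfsg.Agent.H69.RSDefs
import Cfsg.Agent.H1.HallHigman

/-!
# S2361, piece RS-SOLV (helper40): a non-trivial solvable subgroup `S` normalises a non-trivial
`p`-subgroup of `S` for an odd prime `p`, or a non-trivial 2-subgroup `E ≤ S` with `C_S(E) ≤ E`.
-/

set_option autoImplicit false

namespace Cfsg.Agent.H40.RS

open Cfsg.Agent.H69.RS

universe u

/-- The image in `G` of a normal subgroup of `↥S` is normalised by `S`. -/
theorem le_normalizer_map_subtype {G : Type u} [Group G] (S : Subgroup G) (K : Subgroup ↥S)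
    [hK : K.Normal] : S ≤ Subgroup.normalizer ((K.map S.subtype : Subgroup G) : Set G) := by
  intro s hs
  rw [Subgroup.mem_normalizer_iff]
  intro n
  constructor
  · rintro ⟨k, hk, rfl⟩
    refine ⟨(⟨s, hs⟩ : ↥S) * k * (⟨s, hs⟩ : ↥S)⁻¹, hK.conj_mem k hk _, ?_⟩
    simp
  · rintro ⟨k, hk, hkn⟩
    refine ⟨(⟨s, hs⟩ : ↥S)⁻¹ * k * (⟨s, hs⟩ : ↥S)⁻¹⁻¹, hK.conj_mem k hk _, ?_⟩
    have hkn' : (k : G) = s * n * s⁻¹ := hkn
    simp only [inv_inv, Subgroup.subtype_apply, Subgroup.coe_mul, Subgroup.coe_inv, hkn']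
    group

/-- **RS-SOLV.** -/
theorem solv : StSolv.{u} := by
  intro G _ _ S hsolv hSne
  classical
  have : Group.IsSolvable ↥S := hsolv
  by_cases h : ∃ p : Nat.Primes, (p : ℕ) ≠ 2 ∧ Cfsg.pCore (p : ℕ) ↥S ≠ ⊥
  · left
    obtain ⟨p, hp2, hpne⟩ := h
    have : Fact (p : ℕ).Prime := ⟨p.2⟩
    refine ⟨p, p.2, hp2, (Cfsg.pCore (p : ℕ) ↥S).map S.subtype, Subgroup.map_subtype_le _,
      le_normalizer_map_subtype S _, ?_, ?_⟩
    · intro h0
      apply hpne
      rw [← Subgroup.map_bot S.subtype] at h0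
      exact Subgroup.map_injective (Subgroup.subtype_injective S) h0
    · exact (Cfsg.Agent.H1.pCore_isPGroup (G := ↥S) (p : ℕ)).map S.subtype
  · right
    push Not at h
    have : Fact (2 : ℕ).Prime := ⟨Nat.prime_two⟩
    have hF : Cfsg.fittingSubgroup ↥S = Cfsg.pCore 2 ↥S := by
      rw [Cfsg.Agent.H1.fitting_eq_iSup_pCore]
      apply le_antisymm
      · apply iSup_le
        intro p
        by_cases hp : (p : ℕ) = 2
        · rw [hp]
        · rw [h p hp]
          exact bot_le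
      · exact le_iSup (fun p : Nat.Primes => Cfsg.pCore (p : ℕ) ↥S) ⟨2, Nat.prime_two⟩
    have hcent := Cfsg.Agent.H1.centralizer_fitting_le (G := ↥S)
    rw [hF] at hcent
    refine ⟨(Cfsg.pCore 2 ↥S).map S.subtype, Subgroup.map_subtype_le _,
      le_normalizer_map_subtype S _, ?_, ?_, ?_⟩
    · intro h0
      rw [← Subgroup.map_bot S.subtype] at h0
      have h1 : Cfsg.pCore 2 ↥S = ⊥ := Subgroup.map_injective (Subgroup.subtype_injective S) h0
      rw [h1] at hcent
      apply hSne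
      rw [eq_bot_iff]
      intro x hx
      have h2 : (⟨x, hx⟩ : ↥S) ∈ Subgroup.centralizer (((⊥ : Subgroup ↥S) : Subgroup ↥S) : Set ↥S) := by
        rw [Subgroup.mem_centralizer_iff]
        intro y hy
        have hy1 : y = 1 := by simpa using hy
        rw [hy1, one_mul, mul_one]
      have h3 := hcent h2
      rw [Subgroup.mem_bot] at h3
      rw [Subgroup.mem_bot]
      exact congrArg Subtype.val h3
    · exact (Cfsg.Agent.H1.pCore_isPGroup (G := ↥S) 2).map S.subtype
    · rintro x ⟨hxS, hxC⟩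
      have hxC' : x ∈ Subgroup.centralizer
          (((Cfsg.pCore 2 ↥S).map S.subtype : Subgroup G) : Set G) := hxC
      rw [Subgroup.mem_centralizer_iff] at hxC'
      have h2 : (⟨x, hxS⟩ : ↥S) ∈ Subgroup.centralizer ((Cfsg.pCore 2 ↥S : Subgroup ↥S) : Set ↥S) := by
        rw [Subgroup.mem_centralizer_iff]
        intro y hy
        apply Subtype.ext
        exact hxC' (y : G) ⟨y, hy, rfl⟩
      exact ⟨⟨x, hxS⟩, hcent h2, rfl⟩

example : StSolv.{u} := solv

end Cfsg.Agent.H40.RS
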