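import Mathlib

/-!
# Uniqueness of the group of order 54 given by the `3^{1+2}:2` relations

Two groups generated by `d, x, y` with `d² = 1`, `d` inverting `x` and `y`,
`x³ = y³ = (xy)³ = (x⁻¹y)³ = 1` and `xy ≠ yx` are isomorphic.
-/

namespace Cfsg.Agent.H40.Rec54

universe u v

section Rel
variable {G : Type u} [Group G]

/-- The relations. -/
structure Rel (d x y : G) : Prop where
  hd : d * d = 1
  hx : d * x * d = x⁻¹
  hy : d * y * d = y⁻¹
  hx3 : x ^ 3 = 1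
  hy3 : y ^ 3 = 1
  hxy3 : (x * y) ^ 3 = 1
  hxy3' : (x⁻¹ * y) ^ 3 = 1

/-- The central commutator. -/
def zz (x y : G) : G := y⁻¹ * x⁻¹ * y * x

theorem comm_conj {x y : G} (hy3 : y ^ 3 = 1) (hxy3 : (x * y) ^ 3 = 1)
    (hxy3' : (x⁻¹ * y) ^ 3 = 1) : x * (y⁻¹ * x * y) = (y⁻¹ * x * y) * x := by
  have h1 : x * y * x * y * x * y = 1 := by simpa [pow_succ, mul_assoc] using hxy3
  have h2 : x⁻¹ * y * x⁻¹ * y * x⁻¹ * y = 1 := by simpa [pow_succ, mul_assoc] using hxy3'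
  have h3 : y * y * y = 1 := by simpa [pow_succ, mul_assoc] using hy3
  have e1 : x * (y⁻¹ * x * y) = y * x⁻¹ * y⁻¹ := by
    calc x * (y⁻¹ * x * y)
        = y * (x⁻¹ * y * x⁻¹ * y * x⁻¹ * y)⁻¹ * x⁻¹ * (y * y * y) * y⁻¹ := by group
      _ = y * x⁻¹ * y⁻¹ := by rw [h2, h3]; group
  have e2 : (y⁻¹ * x * y) * x = y * x⁻¹ * y⁻¹ := by
    calc (y⁻¹ * x * y) * x
        = y⁻¹ * (x * y * x * y * x * y) * (y⁻¹ * x⁻¹ * y⁻¹) := by group
      _ = (y * y * y)⁻¹ * y * x⁻¹ * y⁻¹ := by rw [h1]; group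
      _ = y * x⁻¹ * y⁻¹ := by rw [h3]; group
  rw [e1, e2]

theorem swap_rel {x y : G} (hxy3 : (x * y) ^ 3 = 1) : (y * x) ^ 3 = 1 := by
  have : y * x = x⁻¹ * (x * y) * x⁻¹⁻¹ := by group
  rw [this, conj_pow, hxy3]; group

theorem swap_rel' {x y : G} (hxy3' : (x⁻¹ * y) ^ 3 = 1) : (y⁻¹ * x) ^ 3 = 1 := by
  have : y⁻¹ * x = (x⁻¹ * y)⁻¹ := by group
  rw [this, inv_pow, hxy3', inv_one]

variable {d x y : G}

theorem Rel.zx (h : Rel d x y) : Commute (zz x y) x := by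
  have h1 : Commute x (y⁻¹ * x * y) := comm_conj h.hy3 h.hxy3 h.hxy3'
  have h2 : Commute x ((y⁻¹ * x * y)⁻¹ * x) := h1.inv_right.mul_right (Commute.refl x)
  have h3 : zz x y = (y⁻¹ * x * y)⁻¹ * x := by unfold zz; group
  rw [h3]; exact h2.symm

theorem Rel.zy (h : Rel d x y) : Commute (zz x y) y := by
  have h1 : Commute y (x⁻¹ * y * x) :=
    comm_conj h.hx3 (swap_rel h.hxy3) (swap_rel' h.hxy3')
  have h2 : Commute y (y⁻¹ * (x⁻¹ * y * x)) := (Commute.refl y).inv_right.mul_right h1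
  have h3 : zz x y = y⁻¹ * (x⁻¹ * y * x) := by unfold zz; group
  rw [h3]; exact h2.symm

theorem yx_eq (x y : G) : y * x = x * y * zz x y := by unfold zz; group

theorem Rel.dinv (h : Rel d x y) : d⁻¹ = d := inv_eq_of_mul_eq_one_left h.hd

theorem Rel.dx (h : Rel d x y) : SemiconjBy d x x⁻¹ := by
  unfold SemiconjBy
  have := h.hx
  calc d * x = d * x * d * d⁻¹ := by group
    _ = x⁻¹ * d := by rw [this, h.dinv]

theorem Rel.dy (h : Rel d x y) : SemiconjBy d y y⁻¹ := by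
  unfold SemiconjBy
  have := h.hy
  calc d * y = d * y * d * d⁻¹ := by group
    _ = y⁻¹ * d := by rw [this, h.dinv]

theorem Rel.zd (h : Rel d x y) : Commute (zz x y) d := by
  have h1 : SemiconjBy d (zz x y) (y * x * y⁻¹ * x⁻¹) := by
    unfold zz
    have a := h.dx
    have b := h.dy
    have a' : SemiconjBy d x⁻¹ x := by simpa using a.inv_right
    have b' : SemiconjBy d y⁻¹ y := by simpa using b.inv_right
    exact ((b'.mul_right a').mul_right b).mul_right a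
  have h2 : y * x * y⁻¹ * x⁻¹ = zz x y := by
    have hc : Commute (zz x y) (x * y) := h.zx.mul_right h.zy
    calc y * x * y⁻¹ * x⁻¹ = x * y * zz x y * y⁻¹ * x⁻¹ := by rw [yx_eq x y]
      _ = zz x y * (x * y) * y⁻¹ * x⁻¹ := by rw [hc.eq]
      _ = zz x y := by group
  rw [h2] at h1
  exact (show Commute d (zz x y) from h1).symm

theorem Rel.y_mul_x_pow (h : Rel d x y) (i : ℕ) :
    y * x ^ i = x ^ i * y * zz x y ^ i := by
  induction i with
  | zero => simp
  | succ i ih =>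
    have hc : Commute (zz x y ^ i) x := h.zx.pow_left i
    calc y * x ^ (i + 1) = y * x ^ i * x := by rw [pow_succ, mul_assoc]
      _ = x ^ i * y * (zz x y ^ i * x) := by rw [ih]; simp only [mul_assoc]
      _ = x ^ i * y * (x * zz x y ^ i) := by rw [hc.eq]
      _ = x ^ i * (y * x) * zz x y ^ i := by simp only [mul_assoc]
      _ = x ^ i * (x * y * zz x y) * zz x y ^ i := by rw [yx_eq x y]
      _ = x ^ (i + 1) * y * zz x y ^ (i + 1) := by
        rw [pow_succ, pow_succ']; simp only [mul_assoc]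

theorem Rel.y_pow_mul_x (h : Rel d x y) (j : ℕ) :
    y ^ j * x = x * y ^ j * zz x y ^ j := by
  induction j with
  | zero => simp
  | succ j ih =>
    have hc : Commute (zz x y) (y ^ j) := h.zy.pow_right j
    calc y ^ (j + 1) * x = y * (y ^ j * x) := by rw [pow_succ', mul_assoc]
      _ = (y * x) * y ^ j * zz x y ^ j := by rw [ih]; simp only [mul_assoc]
      _ = x * y * (zz x y * y ^ j) * zz x y ^ j := by
        rw [yx_eq x y]; simp only [mul_assoc]
      _ = x * y * (y ^ j * zz x y) * zz x y ^ j := by rw [hc.eq]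
      _ = x * y ^ (j + 1) * zz x y ^ (j + 1) := by
        rw [pow_succ', pow_succ']; simp only [mul_assoc]

theorem Rel.z3 (h : Rel d x y) : zz x y ^ 3 = 1 := by
  have := h.y_pow_mul_x 3
  rw [h.hy3, one_mul, mul_one] at this
  exact (mul_eq_left.mp this.symm)

theorem Rel.xinv (h : Rel d x y) : x⁻¹ = x ^ 2 := by
  have : x ^ 2 * x = 1 := by rw [← pow_succ]; exact h.hx3
  exact (eq_inv_of_mul_eq_one_left this).symm

theorem Rel.yinv (h : Rel d x y) : y⁻¹ = y ^ 2 := by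
  have : y ^ 2 * y = 1 := by rw [← pow_succ]; exact h.hy3
  exact (eq_inv_of_mul_eq_one_left this).symm

/-- The set of normal forms. -/
def NF (d x y : G) : Set G :=
  {g | ∃ i j k l : ℕ, g = x ^ i * y ^ j * zz x y ^ k * d ^ l}

theorem Rel.x_mul_nf (_h : Rel d x y) {g : G} (hg : g ∈ NF d x y) : x * g ∈ NF d x y := by
  obtain ⟨i, j, k, l, rfl⟩ := hg
  exact ⟨i + 1, j, k, l, by rw [pow_succ']; simp only [mul_assoc]⟩

theorem Rel.y_mul_nf (h : Rel d x y) {g : G} (hg : g ∈ NF d x y) : y * g ∈ NF d x y := by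
  obtain ⟨i, j, k, l, rfl⟩ := hg
  refine ⟨i, j + 1, i + k, l, ?_⟩
  have hc : Commute (zz x y ^ i) (y ^ j) := (h.zy.pow_right j).pow_left i
  calc y * (x ^ i * y ^ j * zz x y ^ k * d ^ l)
      = (y * x ^ i) * y ^ j * zz x y ^ k * d ^ l := by simp only [mul_assoc]
    _ = x ^ i * y * (zz x y ^ i * y ^ j) * zz x y ^ k * d ^ l := by
      rw [h.y_mul_x_pow]; simp only [mul_assoc]
    _ = x ^ i * y * (y ^ j * zz x y ^ i) * zz x y ^ k * d ^ l := by rw [hc.eq]
    _ = x ^ i * y ^ (j + 1) * zz x y ^ (i + k) * d ^ l := by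
      rw [pow_succ', pow_add]; simp only [mul_assoc]

theorem Rel.d_mul_nf (h : Rel d x y) {g : G} (hg : g ∈ NF d x y) : d * g ∈ NF d x y := by
  obtain ⟨i, j, k, l, rfl⟩ := hg
  refine ⟨2 * i, 2 * j, k, l + 1, ?_⟩
  have hx : d * x ^ i = x⁻¹ ^ i * d := (h.dx.pow_right i).eq
  have hy : d * y ^ j = y⁻¹ ^ j * d := (h.dy.pow_right j).eq
  have hz : d * zz x y ^ k = zz x y ^ k * d := ((h.zd.pow_left k).eq).symm
  calc d * (x ^ i * y ^ j * zz x y ^ k * d ^ l)
      = (d * x ^ i) * y ^ j * zz x y ^ k * d ^ l := by simp only [mul_assoc]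
    _ = x⁻¹ ^ i * (d * y ^ j) * zz x y ^ k * d ^ l := by rw [hx]; simp only [mul_assoc]
    _ = x⁻¹ ^ i * y⁻¹ ^ j * (d * zz x y ^ k) * d ^ l := by rw [hy]; simp only [mul_assoc]
    _ = x⁻¹ ^ i * y⁻¹ ^ j * zz x y ^ k * (d * d ^ l) := by rw [hz]; simp only [mul_assoc]
    _ = x ^ (2 * i) * y ^ (2 * j) * zz x y ^ k * d ^ (l + 1) := by
      rw [h.xinv, h.yinv, ← pow_mul, ← pow_mul, pow_succ']

theorem Rel.nf_of_mem_closure (h : Rel d x y) :
    ∀ g ∈ Subgroup.closure ({d, x, y} : Set G), g ∈ NF d x y := by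
  have key : ∀ g ∈ Subgroup.closure ({d, x, y} : Set G),
      (∀ t ∈ NF d x y, g * t ∈ NF d x y) ∧ (∀ t ∈ NF d x y, g⁻¹ * t ∈ NF d x y) := by
    intro g hg
    induction hg using Subgroup.closure_induction with
    | mem s hs =>
      rcases hs with rfl | rfl | rfl
      · refine ⟨fun t ht => h.d_mul_nf ht, fun t ht => ?_⟩
        rw [h.dinv]; exact h.d_mul_nf ht
      · refine ⟨fun t ht => h.x_mul_nf ht, fun t ht => ?_⟩
        rw [h.xinv, pow_two, mul_assoc]; exact h.x_mul_nf (h.x_mul_nf ht)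
      · refine ⟨fun t ht => h.y_mul_nf ht, fun t ht => ?_⟩
        rw [h.yinv, pow_two, mul_assoc]; exact h.y_mul_nf (h.y_mul_nf ht)
    | one => exact ⟨fun t ht => by simpa using ht, fun t ht => by simpa using ht⟩
    | mul a b _ _ iha ihb =>
      refine ⟨fun t ht => ?_, fun t ht => ?_⟩
      · rw [mul_assoc]; exact iha.1 _ (ihb.1 t ht)
      · rw [mul_inv_rev, mul_assoc]; exact ihb.2 _ (iha.2 t ht)
    | inv a _ iha =>
      refine ⟨iha.2, fun t ht => ?_⟩
      rw [inv_inv]; exact iha.1 t ht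
  intro g hg
  have h1 : (1 : G) ∈ NF d x y := ⟨0, 0, 0, 0, by simp⟩
  simpa using (key g hg).1 1 h1

theorem Rel.q_mul_x (h : Rel d x y) (i j k : ℕ) :
    (x ^ i * y ^ j * zz x y ^ k) * x = x * (x ^ i * y ^ j * zz x y ^ k) * zz x y ^ j := by
  have hc : Commute (zz x y ^ k) x := h.zx.pow_left k
  have hc2 : Commute (zz x y ^ k) (zz x y ^ j) := (Commute.refl _).pow_pow k j
  have hc3 : Commute (x ^ i) x := (Commute.refl x).pow_left i
  calc (x ^ i * y ^ j * zz x y ^ k) * x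
      = x ^ i * y ^ j * (zz x y ^ k * x) := by simp only [mul_assoc]
    _ = x ^ i * (y ^ j * x) * zz x y ^ k := by rw [hc.eq]; simp only [mul_assoc]
    _ = (x ^ i * x) * y ^ j * (zz x y ^ j * zz x y ^ k) := by
      rw [h.y_pow_mul_x]; simp only [mul_assoc]
    _ = x * (x ^ i * y ^ j * zz x y ^ k) * zz x y ^ j := by
      rw [hc3.eq, ← hc2.eq]; simp only [mul_assoc]

theorem Rel.y_mul_q (h : Rel d x y) (i j k : ℕ) :
    y * (x ^ i * y ^ j * zz x y ^ k) = (x ^ i * y ^ j * zz x y ^ k) * y * zz x y ^ i := by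
  have hc : Commute (zz x y ^ i) (y ^ j) := (h.zy.pow_right j).pow_left i
  have hc2 : Commute (zz x y ^ i) (zz x y ^ k) := (Commute.refl _).pow_pow i k
  have hc3 : Commute y (y ^ j) := (Commute.refl y).pow_right j
  have hc4 : Commute y (zz x y ^ k) := (h.zy.pow_left k).symm
  calc y * (x ^ i * y ^ j * zz x y ^ k)
      = (y * x ^ i) * y ^ j * zz x y ^ k := by simp only [mul_assoc]
    _ = x ^ i * (y * y ^ j) * (zz x y ^ i * zz x y ^ k) := by
      rw [h.y_mul_x_pow, mul_assoc (x ^ i * y), hc.eq]; simp only [mul_assoc]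
    _ = x ^ i * y ^ j * (y * zz x y ^ k) * zz x y ^ i := by
      rw [hc3.eq, hc2.eq]; simp only [mul_assoc]
    _ = (x ^ i * y ^ j * zz x y ^ k) * y * zz x y ^ i := by
      rw [hc4.eq]; simp only [mul_assoc]

theorem Rel.z_ne_one (_h : Rel d x y) (hne : x * y ≠ y * x) : zz x y ≠ 1 := by
  intro hz
  apply hne
  rw [yx_eq x y, hz, mul_one]

theorem Rel.d_ne_one (h : Rel d x y) (hne : x * y ≠ y * x) : d ≠ 1 := by
  intro hd
  apply hne
  have h1 := h.hx
  rw [hd, one_mul, mul_one] at h1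
  have h2 : x = 1 := by
    have h3 := h.hx3
    have : x ^ 3 = x * (x * x) := by rw [pow_succ, pow_two, mul_assoc]
    rw [this] at h3
    have h4 : x * x = 1 := by nth_rewrite 1 [h1]; simp
    rw [h4, mul_one] at h3
    exact h3
  rw [h2, one_mul, mul_one]

theorem Rel.nf_eq_one (h : Rel d x y) (hne : x * y ≠ y * x) {i j k l : ℕ}
    (h1 : x ^ i * y ^ j * zz x y ^ k * d ^ l = 1) : 3 ∣ i ∧ 3 ∣ j ∧ 3 ∣ k ∧ 2 ∣ l := by
  have hz1 := h.z_ne_one hne
  have hoz : orderOf (zz x y) = 3 := orderOf_eq_prime h.z3 hz1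
  have hod : orderOf d = 2 := orderOf_eq_prime (by rw [pow_two]; exact h.hd) (h.d_ne_one hne)
  set q := x ^ i * y ^ j * zz x y ^ k with hq
  -- the power of `d` is trivial
  have hdl : d ^ l = 1 := by
    by_contra hcon
    have hl : d ^ l = d := by
      rw [← Nat.div_add_mod l 2, pow_add, pow_mul, pow_two, h.hd, one_pow, one_mul]
      rcases Nat.mod_two_eq_zero_or_one l with h0 | h0
      · exfalso; apply hcon
        rw [← Nat.div_add_mod l 2, pow_add, pow_mul, pow_two, h.hd, one_pow, one_mul, h0,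
          pow_zero]
      · rw [h0, pow_one]
    rw [hl] at h1
    have hqd : q = d := by
      have : q = d⁻¹ := eq_inv_of_mul_eq_one_left h1
      rw [this, h.dinv]
    have e1 : d * x = x * d * zz x y ^ j := by
      have := h.q_mul_x i j k
      rw [← hq, hqd] at this
      exact this
    have e2 : d * x = x⁻¹ * d := h.dx.eq
    have hcd : Commute (zz x y ^ j) d := h.zd.pow_left j
    have e3 : x * zz x y ^ j = x⁻¹ := by
      have : x * zz x y ^ j * d = x⁻¹ * d := by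
        rw [mul_assoc, hcd.eq, ← mul_assoc, ← e1, e2]
      exact mul_right_cancel this
    have e4 : zz x y ^ j = x := by
      have : zz x y ^ j = x⁻¹ * x⁻¹ := by
        calc zz x y ^ j = x⁻¹ * (x * zz x y ^ j) := by group
          _ = x⁻¹ * x⁻¹ := by rw [e3]
      rw [this, h.xinv, ← pow_add]
      have : x ^ (2 + 2) = x ^ 3 * x := by rw [← pow_succ]
      rw [this, h.hx3, one_mul]
    apply hne
    have hcy : Commute (zz x y ^ j) y := h.zy.pow_left j
    rw [e4] at hcy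
    exact hcy.eq
  rw [hdl, mul_one] at h1
  have hzj : zz x y ^ j = 1 := by
    have := h.q_mul_x i j k
    rw [← hq, h1, one_mul, mul_one] at this
    exact (mul_eq_left.mp this.symm)
  have hzi : zz x y ^ i = 1 := by
    have := h.y_mul_q i j k
    rw [← hq, h1, one_mul, mul_one] at this
    exact (mul_eq_left.mp this.symm)
  have hi : 3 ∣ i := by rw [← hoz]; exact orderOf_dvd_of_pow_eq_one hzi
  have hj : 3 ∣ j := by rw [← hoz]; exact orderOf_dvd_of_pow_eq_one hzj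
  have hxi : x ^ i = 1 := by
    obtain ⟨a, rfl⟩ := hi
    rw [pow_mul, h.hx3, one_pow]
  have hyj : y ^ j = 1 := by
    obtain ⟨a, rfl⟩ := hj
    rw [pow_mul, h.hy3, one_pow]
  have hzk : zz x y ^ k = 1 := by
    rw [hq, hxi, hyj, one_mul, one_mul] at h1
    exact h1
  refine ⟨hi, hj, ?_, ?_⟩
  · rw [← hoz]; exact orderOf_dvd_of_pow_eq_one hzk
  · rw [← hod]; exact orderOf_dvd_of_pow_eq_one hdl

theorem Rel.nf_one_of_dvd (h : Rel d x y) {i j k l : ℕ}
    (hi : 3 ∣ i) (hj : 3 ∣ j) (hk : 3 ∣ k) (hl : 2 ∣ l) :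
    x ^ i * y ^ j * zz x y ^ k * d ^ l = 1 := by
  obtain ⟨a, rfl⟩ := hi
  obtain ⟨b, rfl⟩ := hj
  obtain ⟨c, rfl⟩ := hk
  obtain ⟨e, rfl⟩ := hl
  rw [pow_mul, pow_mul, pow_mul, pow_mul, h.hx3, h.hy3, h.z3, pow_two, h.hd]
  simp

end Rel

section Main
variable {K₁ : Type u} {K₂ : Type v} [Group K₁] [Group K₂]

theorem rel_prod {d x y : K₁} {d' x' y' : K₂} (h : Rel d x y) (h' : Rel d' x' y') :
    Rel ((d, d') : K₁ × K₂) (x, x') (y, y') where
  hd := Prod.ext h.hd h'.hd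
  hx := Prod.ext h.hx h'.hx
  hy := Prod.ext h.hy h'.hy
  hx3 := Prod.ext h.hx3 h'.hx3
  hy3 := Prod.ext h.hy3 h'.hy3
  hxy3 := Prod.ext h.hxy3 h'.hxy3
  hxy3' := Prod.ext h.hxy3' h'.hxy3'

theorem fst_inj {d x y : K₁} {d' x' y' : K₂} (h : Rel d x y) (h' : Rel d' x' y')
    (hne : x * y ≠ y * x) :
    ∀ g ∈ Subgroup.closure ({(d, d'), (x, x'), (y, y')} : Set (K₁ × K₂)), g.1 = 1 → g = 1 := by
  intro g hg hg1
  have hp := rel_prod h h'
  obtain ⟨i, j, k, l, rfl⟩ := hp.nf_of_mem_closure g hg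
  have hz : (zz ((x, x') : K₁ × K₂) (y, y')).1 = zz x y := rfl
  have h1 : x ^ i * y ^ j * zz x y ^ k * d ^ l = 1 := by
    rw [← hg1]; simp [hz]
  obtain ⟨hi, hj, hk, hl⟩ := h.nf_eq_one hne h1
  exact hp.nf_one_of_dvd hi hj hk hl

theorem snd_inj {d x y : K₁} {d' x' y' : K₂} (h : Rel d x y) (h' : Rel d' x' y')
    (hne' : x' * y' ≠ y' * x') :
    ∀ g ∈ Subgroup.closure ({(d, d'), (x, x'), (y, y')} : Set (K₁ × K₂)), g.2 = 1 → g = 1 := by
  intro g hg hg1
  have hp := rel_prod h h'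
  obtain ⟨i, j, k, l, rfl⟩ := hp.nf_of_mem_closure g hg
  have hz : (zz ((x, x') : K₁ × K₂) (y, y')).2 = zz x' y' := rfl
  have h1 : x' ^ i * y' ^ j * zz x' y' ^ k * d' ^ l = 1 := by
    rw [← hg1]; simp [hz]
  obtain ⟨hi, hj, hk, hl⟩ := h'.nf_eq_one hne' h1
  exact hp.nf_one_of_dvd hi hj hk hl

/-- **Uniqueness of the group of order 54** defined by the `3^{1+2}:2` relations. -/
theorem rec54_unique (d x y : K₁) (d' x' y' : K₂)
    (hd : d * d = 1) (hx : d * x * d = x⁻¹) (hy : d * y * d = y⁻¹) (hx3 : x ^ 3 = 1)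
    (hy3 : y ^ 3 = 1) (hxy3 : (x * y) ^ 3 = 1) (hxy3' : (x⁻¹ * y) ^ 3 = 1)
    (hne : x * y ≠ y * x) (hgen : Subgroup.closure {d, x, y} = ⊤)
    (hd' : d' * d' = 1) (hx' : d' * x' * d' = x'⁻¹) (hy' : d' * y' * d' = y'⁻¹)
    (hx3' : x' ^ 3 = 1) (hy3' : y' ^ 3 = 1) (hxy3'' : (x' * y') ^ 3 = 1)
    (hxy3''' : (x'⁻¹ * y') ^ 3 = 1) (hne' : x' * y' ≠ y' * x')
    (hgen' : Subgroup.closure {d', x', y'} = ⊤) : Nonempty (K₁ ≃* K₂) := by
  have h : Rel d x y := ⟨hd, hx, hy, hx3, hy3, hxy3, hxy3'⟩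
  have h' : Rel d' x' y' := ⟨hd', hx', hy', hx3', hy3', hxy3'', hxy3'''⟩
  set H : Subgroup (K₁ × K₂) :=
    Subgroup.closure ({(d, d'), (x, x'), (y, y')} : Set (K₁ × K₂)) with hH
  let f₁ : H →* K₁ := (MonoidHom.fst K₁ K₂).comp H.subtype
  let f₂ : H →* K₂ := (MonoidHom.snd K₁ K₂).comp H.subtype
  have hf₁ : Function.Injective f₁ := by
    rw [injective_iff_map_eq_one]
    intro a ha
    exact Subtype.ext (fst_inj h h' hne a.1 a.2 ha)
  have hf₂ : Function.Injective f₂ := by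
    rw [injective_iff_map_eq_one]
    intro a ha
    exact Subtype.ext (snd_inj h h' hne' a.1 a.2 ha)
  have hs₁ : Function.Surjective f₁ := by
    intro k
    have hk : k ∈ Subgroup.closure ({d, x, y} : Set K₁) := by rw [hgen]; trivial
    induction hk using Subgroup.closure_induction with
    | mem s hs =>
      rcases hs with rfl | rfl | rfl
      · exact ⟨⟨(s, d'), Subgroup.subset_closure (by simp)⟩, rfl⟩
      · exact ⟨⟨(s, x'), Subgroup.subset_closure (by simp)⟩, rfl⟩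
      · exact ⟨⟨(s, y'), Subgroup.subset_closure (by simp)⟩, rfl⟩
    | one => exact ⟨1, map_one _⟩
    | mul a b _ _ iha ihb =>
      obtain ⟨a', rfl⟩ := iha
      obtain ⟨b', rfl⟩ := ihb
      exact ⟨a' * b', map_mul _ _ _⟩
    | inv a _ iha =>
      obtain ⟨a', rfl⟩ := iha
      exact ⟨a'⁻¹, map_inv _ _⟩
  have hs₂ : Function.Surjective f₂ := by
    intro k
    have hk : k ∈ Subgroup.closure ({d', x', y'} : Set K₂) := by rw [hgen']; trivial
    induction hk using Subgroup.closure_induction with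
    | mem s hs =>
      rcases hs with rfl | rfl | rfl
      · exact ⟨⟨(d, s), Subgroup.subset_closure (by simp)⟩, rfl⟩
      · exact ⟨⟨(x, s), Subgroup.subset_closure (by simp)⟩, rfl⟩
      · exact ⟨⟨(y, s), Subgroup.subset_closure (by simp)⟩, rfl⟩
    | one => exact ⟨1, map_one _⟩
    | mul a b _ _ iha ihb =>
      obtain ⟨a', rfl⟩ := iha
      obtain ⟨b', rfl⟩ := ihb
      exact ⟨a' * b', map_mul _ _ _⟩
    | inv a _ iha =>
      obtain ⟨a', rfl⟩ := iha
      exact ⟨a'⁻¹, map_inv _ _⟩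
  exact ⟨(MulEquiv.ofBijective f₁ ⟨hf₁, hs₁⟩).symm.trans (MulEquiv.ofBijective f₂ ⟨hf₂, hs₂⟩)⟩

end Main

end Cfsg.Agent.H40.Rec54
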