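import Cfsg.Agent.H52.SoDefs

/-!
# SO-INJ (piece of S2943): a component is determined by its image modulo `C`

`K_i ⊔ Q = ⁅K_i ⊔ C, J⁆ ⊔ Q`, so `K₁ ⊔ Q = K₂ ⊔ Q =: P`; `K_i ⊴ P` with `P / K_i` a 2-group, so
every element of odd order of `P` lies in `K_i`, and `K_i` is generated by such elements.
-/

set_option autoImplicit false
open Cfsg
open scoped commutatorElement

universe u

namespace Cfsg.Agent.H40.Sn

open Cfsg.Agent.H52.Sn

/-- If the 2-group `Q` normalizes `K`, the elements of odd order of `Q ⊔ K` lie in `K`. -/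
theorem inj_odd_mem {X : Type u} [Group X] [Finite X] (K Q : Subgroup X)
    (hQK : Q ≤ Subgroup.normalizer (K : Set X)) (hQ : IsPGroup 2 ↥Q) (g : X)
    (hg : g ∈ Q ⊔ K) (ho : Odd (orderOf g)) : g ∈ K := by
  haveI h2 : (K.subgroupOf (Q ⊔ K)).Normal := Subgroup.normal_subgroupOf_sup_of_le_normalizer hQK
  have hcard : Nat.card (↥(Q ⊔ K) ⧸ K.subgroupOf (Q ⊔ K)) = K.relIndex Q := by
    haveI h1 := Subgroup.normal_subgroupOf_of_le_normalizer hQK
    exact Nat.card_congr (QuotientGroup.quotientInfEquivProdNormalizerQuotient Q K hQK).toEquiv.symm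
  obtain ⟨n, hn⟩ := IsPGroup.iff_card.mp hQ
  have hdvd : K.relIndex Q ∣ 2 ^ n := by
    rw [← hn]
    exact Subgroup.relIndex_dvd_card K Q
  have ho' : orderOf (QuotientGroup.mk' (K.subgroupOf (Q ⊔ K)) ⟨g, hg⟩) ∣ orderOf g := by
    have := orderOf_map_dvd (QuotientGroup.mk' (K.subgroupOf (Q ⊔ K))) (⟨g, hg⟩ : ↥(Q ⊔ K))
    rwa [Subgroup.orderOf_mk] at this
  have ho2 : orderOf (QuotientGroup.mk' (K.subgroupOf (Q ⊔ K)) ⟨g, hg⟩) ∣ 2 ^ n := by
    refine (orderOf_dvd_natCard _).trans ?_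
    rw [hcard]
    exact hdvd
  have hcop : Nat.Coprime (orderOf g) (2 ^ n) :=
    Nat.Coprime.pow_right n (Nat.coprime_two_right.mpr ho)
  have h1 : orderOf (QuotientGroup.mk' (K.subgroupOf (Q ⊔ K)) ⟨g, hg⟩) = 1 :=
    Nat.eq_one_of_dvd_coprimes hcop ho' ho2
  rw [orderOf_eq_one_iff, QuotientGroup.mk'_apply, QuotientGroup.eq_one_iff] at h1
  exact Subgroup.mem_subgroupOf.mp h1

theorem inj : StInj.{u} := by
  intro X _ _ C Q J K₁ K₂ hC hQ hQ2 hCJ hgen₁ hKJ₁ hQK₁ hgen₂ hKJ₂ hQK₂ hKC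
  have key : ∀ K : Subgroup X, ⁅K, J⁆ = K → ⁅K ⊔ C, J⁆ ⊔ Q = Q ⊔ K := by
    intro K hKJ
    apply le_antisymm
    · apply sup_le _ le_sup_left
      rw [Subgroup.commutator_le]
      intro g hg a ha
      obtain ⟨k, hk, c, hc, rfl⟩ := Subgroup.mem_sup_of_normal_right.mp hg
      have e : ⁅k * c, a⁆ = (k * ⁅c, a⁆ * k⁻¹) * ⁅k, a⁆ := by
        simp only [commutatorElement_def]
        group
      rw [e]
      apply Subgroup.mul_mem
      · exact (le_sup_left : Q ≤ Q ⊔ K)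
          (hQ.conj_mem _ (hCJ (Subgroup.commutator_mem_commutator hc ha)) k)
      · apply (le_sup_right : K ≤ Q ⊔ K)
        rw [← hKJ]
        exact Subgroup.commutator_mem_commutator hk ha
    · apply sup_le le_sup_right
      refine le_trans ?_ le_sup_left
      conv_lhs => rw [← hKJ]
      exact Subgroup.commutator_mono le_sup_left le_rfl
  have hP : Q ⊔ K₁ = Q ⊔ K₂ := by rw [← key K₁ hKJ₁, ← key K₂ hKJ₂, hKC]
  apply le_antisymm
  · conv_lhs => rw [← hgen₁]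
    rw [Subgroup.closure_le]
    rintro g ⟨hg, ho⟩
    refine inj_odd_mem K₂ Q hQK₂ hQ2 g ?_ ho
    rw [← hP]
    exact (le_sup_right : K₁ ≤ Q ⊔ K₁) hg
  · conv_lhs => rw [← hgen₂]
    rw [Subgroup.closure_le]
    rintro g ⟨hg, ho⟩
    refine inj_odd_mem K₁ Q hQK₁ hQ2 g ?_ ho
    rw [hP]
    exact (le_sup_right : K₂ ≤ Q ⊔ K₂) hg

example : StInj.{u} := inj

end Cfsg.Agent.H40.Sn
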