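import Mathlib
import Cfsg.Agent.H17.TgDefs

/-! S1904 piece TG-N3 (helper17's project): a 2-group `X` of order 32 with `|Z(X)| = 4`,
`Z(X)` of exponent 2, central squares, `X' = Z(X)` and all involutions central admits no
odd-order automorphism group `A` with `[X, A] = X`.  Uses `StFix`. -/

set_option autoImplicit false

universe u

namespace Cfsg.Agent.H40.Tg

open Cfsg Cfsg.Agent.H17.Tg

theorem n3_aut_mem_center {X : Type u} [Group X] (φ : MulAut X) {z : X}
    (hz : z ∈ Subgroup.center X) : φ z ∈ Subgroup.center X := by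
  rw [Subgroup.mem_center_iff] at hz ⊢
  intro g
  have h2 := congrArg φ (hz (φ⁻¹ g))
  simpa using h2

theorem n3_exists_ne_four {Q : Type u} [Finite Q] (h : 4 < Nat.card Q) (a b c d : Q) :
    ∃ q : Q, q ≠ a ∧ q ≠ b ∧ q ≠ c ∧ q ≠ d := by
  classical
  haveI : Fintype Q := Fintype.ofFinite Q
  by_contra hcon
  push Not at hcon
  have hsub : (Finset.univ : Finset Q) ⊆ {a, b, c, d} := by
    intro q _
    simp only [Finset.mem_insert, Finset.mem_singleton]
    by_cases h1 : q = a
    · exact Or.inl h1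
    by_cases h2 : q = b
    · exact Or.inr (Or.inl h2)
    by_cases h3 : q = c
    · exact Or.inr (Or.inr (Or.inl h3))
    exact Or.inr (Or.inr (Or.inr (hcon q h1 h2 h3)))
  have h1 := Finset.card_le_card hsub
  have h2 : ({a, b, c, d} : Finset Q).card ≤ 4 := Finset.card_le_four
  rw [Finset.card_univ, ← Nat.card_eq_fintype_card] at h1
  omega

theorem n3 (hFix : StFix.{u}) : StN3.{u} := by
  intro X _ _ A hA hZ4 hZ2 hsq hcomm hinv h32
  classical
  have hQA : MulAction.QuotientAction A (Subgroup.center X) := ⟨by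
    intro φ a a' h
    have e : (φ • a)⁻¹ * φ • a' = (φ : MulAut X) (a⁻¹ * a') := by
      show ((φ : MulAut X) a)⁻¹ * (φ : MulAut X) a' = (φ : MulAut X) (a⁻¹ * a')
      rw [map_mul, map_inv]
    rw [e]
    exact n3_aut_mem_center _ h⟩
  have hQ8 : Nat.card (X ⧸ Subgroup.center X) = 8 := by
    have := Subgroup.card_eq_card_quotient_mul_card_subgroup (Subgroup.center X)
    rw [h32, hZ4] at this
    omega
  have hmk1 : ∀ x : X, (QuotientGroup.mk x : X ⧸ Subgroup.center X) = 1 ↔
      x ∈ Subgroup.center X := fun x => QuotientGroup.eq_one_iff x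
  have hsm : ∀ (φ : A) (x : X), φ • (QuotientGroup.mk x : X ⧸ Subgroup.center X) =
      QuotientGroup.mk ((φ : MulAut X) x) := by
    intro φ x
    rw [MulAction.Quotient.smul_mk]
    rfl
  have hsm1 : ∀ φ : A, φ • (1 : X ⧸ Subgroup.center X) = 1 := by
    intro φ
    have := hsm φ 1
    simpa using this
  -- fixed points are trivial
  have hfix : ∀ q : X ⧸ Subgroup.center X, (∀ φ : A, φ • q = q) → q = 1 := by
    intro q hq
    obtain ⟨x, rfl⟩ := QuotientGroup.mk_surjective q
    rw [hmk1]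
    apply hFix X A hA (Subgroup.center X) inferInstance (le_of_eq hcomm) x
    intro φ hφ
    have := hq ⟨φ, hφ⟩
    rw [hsm] at this
    exact QuotientGroup.eq.mp this.symm
  have horb_odd : ∀ q : X ⧸ Subgroup.center X, Odd (MulAction.orbit A q).ncard := by
    intro q
    rw [← MulAction.index_stabilizer]
    exact Odd.of_dvd_nat hA.odd (Subgroup.index_dvd_card _)
  have horb_ne1 : ∀ q : X ⧸ Subgroup.center X, q ≠ 1 → (MulAction.orbit A q).ncard ≠ 1 := by
    intro q hq h1
    obtain ⟨a, ha⟩ := Set.ncard_eq_one.mp h1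
    apply hq
    apply hfix
    intro φ
    have h1 : φ • q ∈ MulAction.orbit A q := MulAction.mem_orbit q φ
    have h2 : q ∈ MulAction.orbit A q := MulAction.mem_orbit_self q
    rw [ha] at h1 h2
    rw [Set.mem_singleton_iff] at h1 h2
    rw [h1, h2]
  have horb3 : ∀ q : X ⧸ Subgroup.center X, q ≠ 1 → 3 ≤ (MulAction.orbit A q).ncard := by
    intro q hq
    have h1 := horb_ne1 q hq
    obtain ⟨k, hk⟩ := horb_odd q
    omega
  have horb_sub : ∀ q : X ⧸ Subgroup.center X, q ≠ 1 →
      MulAction.orbit A q ⊆ ({1}ᶜ : Set (X ⧸ Subgroup.center X)) := by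
    intro q hq r hr
    obtain ⟨φ, rfl⟩ := hr
    simp only [Set.mem_compl_iff, Set.mem_singleton_iff]
    intro h
    apply hq
    have h' : φ⁻¹ • (φ • q) = φ⁻¹ • (1 : X ⧸ Subgroup.center X) := by rw [h]
    rw [inv_smul_smul, hsm1] at h'
    exact h'
  have hc7 : ({1}ᶜ : Set (X ⧸ Subgroup.center X)).ncard = 7 := by
    rw [Set.ncard_compl, Set.ncard_singleton, hQ8]
  have hdisj : ∀ q r : X ⧸ Subgroup.center X, r ∉ MulAction.orbit A q →
      Disjoint (MulAction.orbit A q) (MulAction.orbit A r) := by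
    intro q r hr
    rw [Set.disjoint_left]
    intro s hs1 hs2
    apply hr
    have e1 := MulAction.orbit_eq_iff.mpr hs1
    have e2 := MulAction.orbit_eq_iff.mpr hs2
    rw [← e1, e2]
    exact MulAction.mem_orbit_self r
  have htrans : ∀ q : X ⧸ Subgroup.center X, q ≠ 1 →
      MulAction.orbit A q = ({1}ᶜ : Set (X ⧸ Subgroup.center X)) := by
    intro q hq
    by_contra hne
    have hss : MulAction.orbit A q ⊂ ({1}ᶜ : Set (X ⧸ Subgroup.center X)) :=
      LE.le.ssubset_of_ne (horb_sub q hq) hne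
    obtain ⟨q', hq'1, hq'2⟩ := Set.exists_of_ssubset hss
    have hq'ne : q' ≠ 1 := by simpa using hq'1
    have hd := hdisj q q' hq'2
    have hu : (MulAction.orbit A q ∪ MulAction.orbit A q').ncard =
        (MulAction.orbit A q).ncard + (MulAction.orbit A q').ncard :=
      Set.ncard_union_eq hd (Set.toFinite _) (Set.toFinite _)
    have hsub : MulAction.orbit A q ∪ MulAction.orbit A q' ⊆
        ({1}ᶜ : Set (X ⧸ Subgroup.center X)) :=
      Set.union_subset (horb_sub q hq) (horb_sub q' hq'ne)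
    have hle := Set.ncard_le_ncard hsub (Set.toFinite _)
    have h3 := horb3 q hq
    have h3' := horb3 q' hq'ne
    obtain ⟨k, hk⟩ := horb_odd q
    obtain ⟨k', hk'⟩ := horb_odd q'
    have hlt : (MulAction.orbit A q ∪ MulAction.orbit A q').ncard <
        ({1}ᶜ : Set (X ⧸ Subgroup.center X)).ncard := by omega
    obtain ⟨r, hr1, hr2⟩ := Set.exists_mem_notMem_of_ncard_lt_ncard hlt (Set.toFinite _)
    have hrne : r ≠ 1 := by simpa using hr1
    have hr2a : r ∉ MulAction.orbit A q := fun h => hr2 (Or.inl h)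
    have hr2b : r ∉ MulAction.orbit A q' := fun h => hr2 (Or.inr h)
    have hd2 : Disjoint (MulAction.orbit A q ∪ MulAction.orbit A q') (MulAction.orbit A r) := by
      rw [Set.disjoint_union_left]
      exact ⟨hdisj q r hr2a, hdisj q' r hr2b⟩
    have hu2 := Set.ncard_union_eq hd2 (Set.toFinite _) (Set.toFinite _)
    have hsub2 : MulAction.orbit A q ∪ MulAction.orbit A q' ∪ MulAction.orbit A r ⊆
        ({1}ᶜ : Set (X ⧸ Subgroup.center X)) :=
      Set.union_subset hsub (horb_sub r hrne)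
    have hle2 := Set.ncard_le_ncard hsub2 (Set.toFinite _)
    have h3r := horb3 r hrne
    omega
  -- squares
  have hsqne : ∀ x : X, x ∉ Subgroup.center X → x ^ 2 ≠ 1 := fun x hx h => hx (hinv x h)
  have hmulz : ∀ x z : X, z ∈ Subgroup.center X → (x * z) ^ 2 = x ^ 2 := by
    intro x z hz
    have hc : Commute x z := Subgroup.mem_center_iff.mp hz x
    rw [hc.mul_pow, hZ2 z hz, mul_one]
  have hfixsq : ∀ x : X, x ∉ Subgroup.center X → ∀ φ ∈ A, φ (x ^ 2) = x ^ 2 := by
    intro x hx
    have hq : (QuotientGroup.mk x : X ⧸ Subgroup.center X) ≠ 1 := fun h => hx ((hmk1 x).mp h)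
    have horb := htrans _ hq
    have hidx7 : (MulAction.stabilizer A (QuotientGroup.mk x : X ⧸ Subgroup.center X)).index
        = 7 := by
      rw [MulAction.index_stabilizer, horb, hc7]
    have hle : MulAction.stabilizer A (QuotientGroup.mk x : X ⧸ Subgroup.center X) ≤
        MulAction.stabilizer A (x ^ 2) := by
      intro φ hφ
      rw [MulAction.mem_stabilizer_iff] at hφ ⊢
      rw [hsm] at hφ
      have hz : x⁻¹ * (φ : MulAut X) x ∈ Subgroup.center X := QuotientGroup.eq.mp hφ.symm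
      have e : (φ : MulAut X) x = x * (x⁻¹ * (φ : MulAut X) x) := by group
      show (φ : MulAut X) (x ^ 2) = x ^ 2
      rw [map_pow, e, hmulz x _ hz]
    have hdvd := Subgroup.index_dvd_of_le hle
    rw [hidx7] at hdvd
    have hosub : MulAction.orbit A (x ^ 2) ⊆ (Subgroup.center X : Set X) \ {1} := by
      rintro _ ⟨φ, rfl⟩
      constructor
      · exact n3_aut_mem_center _ (hsq x)
      · simp only [Set.mem_singleton_iff]
        intro h
        apply hsqne x hx
        have h' : (φ : MulAut X) (x ^ 2) = (φ : MulAut X) 1 := by rw [map_one]; exact h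
        exact (φ : MulAut X).injective h'
    have hZ3 : ((Subgroup.center X : Set X) \ {1}).ncard = 3 := by
      rw [Set.ncard_sdiff_singleton_of_mem (Subgroup.center X).one_mem]
      have h4 : (Subgroup.center X : Set X).ncard = 4 := by
        rw [← hZ4]
        exact (Nat.card_coe_set_eq _).symm
      omega
    have hle3 : (MulAction.stabilizer A (x ^ 2)).index ≤ 3 := by
      rw [MulAction.index_stabilizer, ← hZ3]
      exact Set.ncard_le_ncard hosub (Set.toFinite _)
    have h1 : (MulAction.stabilizer A (x ^ 2)).index = 1 := by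
      rcases (Nat.dvd_prime (by norm_num : Nat.Prime 7)).mp hdvd with h | h
      · exact h
      · omega
    rw [Subgroup.index_eq_one] at h1
    intro φ hφ
    have hmem : (⟨φ, hφ⟩ : A) ∈ MulAction.stabilizer A (x ^ 2) := by rw [h1]; trivial
    exact MulAction.mem_stabilizer_iff.mp hmem
  have hconst : ∀ x y : X, x ∉ Subgroup.center X → y ∉ Subgroup.center X → y ^ 2 = x ^ 2 := by
    intro x y hx hy
    have hqx : (QuotientGroup.mk x : X ⧸ Subgroup.center X) ≠ 1 := fun h => hx ((hmk1 x).mp h)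
    have hqy : (QuotientGroup.mk y : X ⧸ Subgroup.center X) ≠ 1 := fun h => hy ((hmk1 y).mp h)
    have hmem : (QuotientGroup.mk y : X ⧸ Subgroup.center X) ∈
        MulAction.orbit A (QuotientGroup.mk x : X ⧸ Subgroup.center X) := by
      rw [htrans _ hqx]
      simpa using hqy
    obtain ⟨φ, hφ⟩ := hmem
    have hφ' : φ • (QuotientGroup.mk x : X ⧸ Subgroup.center X) = QuotientGroup.mk y := hφ
    rw [hsm] at hφ'
    have hz : ((φ : MulAut X) x)⁻¹ * y ∈ Subgroup.center X := QuotientGroup.eq.mp hφ'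
    have e : y = (φ : MulAut X) x * (((φ : MulAut X) x)⁻¹ * y) := by group
    rw [e, hmulz _ _ hz, ← map_pow, hfixsq x hx φ φ.2]
  -- a non-central element
  obtain ⟨x1, hx1⟩ : ∃ x : X, x ∉ Subgroup.center X := by
    by_contra h
    push Not at h
    have ht : Subgroup.center X = ⊤ := by
      rw [eq_top_iff]
      intro x _
      exact h x
    have hc : Nat.card (Subgroup.center X) = Nat.card X := by
      rw [ht]
      exact Subgroup.card_top
    omega
  have hvZ : x1 ^ 2 ∈ Subgroup.center X := hsq x1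
  have hv1 : x1 ^ 2 ≠ 1 := hsqne x1 hx1
  have hvv : x1 ^ 2 * x1 ^ 2 = 1 := by
    rw [← pow_two]
    exact hZ2 _ hvZ
  have hvc := Subgroup.mem_center_iff.mp hvZ
  have hkey : ∀ x y : X, x ∉ Subgroup.center X → y ∉ Subgroup.center X →
      x * y ∉ Subgroup.center X → x * y = x1 ^ 2 * (y * x) := by
    intro x y hx hy hxy
    have h1 : x ^ 2 = x1 ^ 2 := hconst x1 x hx1 hx
    have h2 : y ^ 2 = x1 ^ 2 := hconst x1 y hx1 hy
    have h3 : (x * y) ^ 2 = x1 ^ 2 := hconst x1 (x * y) hx1 hxy
    obtain ⟨c, hcdef⟩ : ∃ c : X, c = x * y * x⁻¹ * y⁻¹ := ⟨_, rfl⟩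
    have hxy' : x * y = c * (y * x) := by
      rw [hcdef]
      group
    have hx2c := Subgroup.mem_center_iff.mp (hsq x)
    have e : (x * y) ^ 2 = c * (x ^ 2 * y ^ 2) := by
      calc (x * y) ^ 2 = (x * y) * (x * y) := pow_two _
        _ = c * (y * x) * (x * y) := by rw [← hxy']
        _ = c * (y * x ^ 2 * y) := by rw [pow_two]; simp only [mul_assoc]
        _ = c * (x ^ 2 * y ^ 2) := by rw [hx2c y, pow_two y, mul_assoc]
    rw [h1, h2, h3, hvv, mul_one] at e
    rw [hxy', ← e]
  -- two more elements, independent modulo the centre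
  have h48 : 4 < Nat.card (X ⧸ Subgroup.center X) := by omega
  obtain ⟨q2, hq2a, hq2b, -, -⟩ := n3_exists_ne_four h48 (1 : X ⧸ Subgroup.center X)
    (QuotientGroup.mk x1)⁻¹ 1 1
  obtain ⟨x2, rfl⟩ := QuotientGroup.mk_surjective q2
  obtain ⟨q3, hq3a, hq3b, hq3c, hq3d⟩ := n3_exists_ne_four h48 (1 : X ⧸ Subgroup.center X)
    (QuotientGroup.mk x1)⁻¹ (QuotientGroup.mk x2)⁻¹ (QuotientGroup.mk (x1 * x2))⁻¹
  obtain ⟨x3, rfl⟩ := QuotientGroup.mk_surjective q3
  have hx2 : x2 ∉ Subgroup.center X := fun h => hq2a ((hmk1 x2).mpr h)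
  have hx12 : x1 * x2 ∉ Subgroup.center X := by
    intro h
    apply hq2b
    have h' := (hmk1 _).mpr h
    rw [QuotientGroup.mk_mul] at h'
    exact eq_inv_of_mul_eq_one_right h'
  have hx3 : x3 ∉ Subgroup.center X := fun h => hq3a ((hmk1 x3).mpr h)
  have hx13 : x1 * x3 ∉ Subgroup.center X := by
    intro h
    apply hq3b
    have h' := (hmk1 _).mpr h
    rw [QuotientGroup.mk_mul] at h'
    exact eq_inv_of_mul_eq_one_right h'
  have hx23 : x2 * x3 ∉ Subgroup.center X := by
    intro h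
    apply hq3c
    have h' := (hmk1 _).mpr h
    rw [QuotientGroup.mk_mul] at h'
    exact eq_inv_of_mul_eq_one_right h'
  have hx123 : x1 * (x2 * x3) ∉ Subgroup.center X := by
    intro h
    apply hq3d
    have h' := (hmk1 _).mpr h
    rw [← mul_assoc, QuotientGroup.mk_mul] at h'
    exact eq_inv_of_mul_eq_one_right h'
  have A1 := hkey x1 x2 hx1 hx2 hx12
  have A2 := hkey x1 x3 hx1 hx3 hx13
  have A3 := hkey x1 (x2 * x3) hx1 hx23 hx123
  have e1 : x1 * (x2 * x3) = x2 * x3 * x1 := by
    calc x1 * (x2 * x3) = (x1 * x2) * x3 := (mul_assoc _ _ _).symm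
      _ = x1 ^ 2 * (x2 * x1) * x3 := by rw [← A1]
      _ = x1 ^ 2 * x2 * (x1 * x3) := by simp only [mul_assoc]
      _ = x1 ^ 2 * x2 * (x1 ^ 2 * (x3 * x1)) := by rw [← A2]
      _ = (x1 ^ 2 * x1 ^ 2) * (x2 * x3 * x1) := by
          rw [← mul_assoc (x1 ^ 2 * x2) (x1 ^ 2), mul_assoc (x1 ^ 2) x2 (x1 ^ 2), hvc x2]
          simp only [mul_assoc]
      _ = x2 * x3 * x1 := by rw [hvv, one_mul]
  rw [e1] at A3
  have hfin : x1 ^ 2 * (x2 * x3 * x1) = 1 * (x2 * x3 * x1) := by
    rw [one_mul]
    exact A3.symm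
  exact hv1 (mul_right_cancel hfin)

example (hFix : StFix.{u}) : StN3.{u} := n3 hFix

end Cfsg.Agent.H40.Tg
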