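import Cfsg.Agent.H74.TsDefs
import Cfsg.Agent.H82.JxDefs
import Cfsg.Agent.H36.JxAct
import Cfsg.Agent.H40.JxCnt
import Cfsg.Agent.H75.JxSq
import Cfsg.Agent.H53.JxFun
import Cfsg.Agent.H14.Thompson

/-!
# TS-W4 (piece of S2948): `|W_K| ∈ {1, 4}` and `W_K` has exponent 2

Bridge to helper82's JX chain (`H82.Jx.w4_of`): `O := O₂(K)` of index 3 in `K`, `x ∈ K` of
order 3, `K = O ⟨x⟩`; `J(T)` normalizes `K = [K, J(T)]`; some `A ∈ 𝒜(T)` and `a ∈ A` invert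
`K / O` (otherwise `[K, J(T)] ≤ O`); `B := C_A(K / O)` has index at most 2 in `A`, and
`Q' := O B` is a 2-group in `T` normalized by `K` and normalizing `K`, with `B ≤ A ∩ Q'`.
-/

set_option autoImplicit false
open Cfsg
open scoped commutatorElement

universe u

namespace Cfsg.Agent.H40.Ts

open Cfsg.Agent.H74.Ts

/-- If `g` centralizes `x` modulo `O` then `g` centralizes `K = O⟨x⟩` modulo `O`. -/
theorem w4_cent {G : Type u} [Group G] (K O : Subgroup G) (x g : G)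
    (hKO : K ≤ Subgroup.normalizer (O : Set G)) (hOK : O ≤ K)
    (hgO : g ∈ Subgroup.normalizer (O : Set G)) (hxK : x ∈ K)
    (hgen : K = O ⊔ Subgroup.zpowers x) (hx : g * x * g⁻¹ * x⁻¹ ∈ O) :
    ∀ k ∈ K, g * k * g⁻¹ * k⁻¹ ∈ O := by
  let D : Subgroup G :=
    { carrier := {k | k ∈ K ∧ g * k * g⁻¹ * k⁻¹ ∈ O}
      one_mem' := ⟨K.one_mem, by simp⟩
      mul_mem' := by
        rintro a b ⟨ha, ha'⟩ ⟨hb, hb'⟩
        refine ⟨K.mul_mem ha hb, ?_⟩
        have e : g * (a * b) * g⁻¹ * (a * b)⁻¹ =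
            (g * a * g⁻¹ * a⁻¹) * (a * (g * b * g⁻¹ * b⁻¹) * a⁻¹) := by group
        rw [e]
        exact O.mul_mem ha' ((Subgroup.mem_normalizer_iff.mp (hKO ha) _).mp hb')
      inv_mem' := by
        rintro a ⟨ha, ha'⟩
        refine ⟨K.inv_mem ha, ?_⟩
        have e : g * a⁻¹ * g⁻¹ * a⁻¹⁻¹ = a⁻¹ * (g * a * g⁻¹ * a⁻¹)⁻¹ * a⁻¹⁻¹ := by group
        rw [e]
        exact (Subgroup.mem_normalizer_iff.mp (hKO (K.inv_mem ha)) _).mp (O.inv_mem ha') }
  have hD : O ⊔ Subgroup.zpowers x ≤ D := by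
    apply sup_le
    · intro o ho
      exact ⟨hOK ho, O.mul_mem ((Subgroup.mem_normalizer_iff.mp hgO o).mp ho) (O.inv_mem ho)⟩
    · rw [Subgroup.zpowers_le]
      exact ⟨hxK, hx⟩
  intro k hk
  rw [hgen] at hk
  exact (hD hk).2

/-- An element normalizing `K` and `O` centralizes or inverts `x` modulo `O` (index 3). -/
theorem w4_cos {G : Type u} [Group G] [Finite G] (K O : Subgroup G) (x g : G)
    (hKO : K ≤ Subgroup.normalizer (O : Set G)) (hOK : O ≤ K) (hidx : O.relIndex K = 3)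
    (hxK : x ∈ K) (hxO : x ∉ O)
    (hgO : g ∈ Subgroup.normalizer (O : Set G)) (hgK : g ∈ Subgroup.normalizer (K : Set G)) :
    g * x * g⁻¹ * x⁻¹ ∈ O ∨ g * x * g⁻¹ * x ∈ O := by
  haveI : Fact (Nat.Prime 3) := ⟨Nat.prime_three⟩
  haveI hn : (O.subgroupOf K).Normal :=
    (Subgroup.normal_subgroupOf_iff_le_normalizer hOK).mpr hKO
  have hcard : Nat.card (↥K ⧸ O.subgroupOf K) = 3 := hidx
  have hyK : g * x * g⁻¹ ∈ K := (Subgroup.mem_normalizer_iff.mp hgK x).mp hxK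
  have hyO : g * x * g⁻¹ ∉ O := fun h => hxO ((Subgroup.mem_normalizer_iff.mp hgO x).mpr h)
  obtain ⟨ξ, hξ⟩ : ∃ ξ : ↥K ⧸ O.subgroupOf K, ξ = QuotientGroup.mk ⟨x, hxK⟩ := ⟨_, rfl⟩
  obtain ⟨η, hη⟩ : ∃ η : ↥K ⧸ O.subgroupOf K, η = QuotientGroup.mk ⟨g * x * g⁻¹, hyK⟩ :=
    ⟨_, rfl⟩
  have hξ1 : ξ ≠ 1 := by
    intro h
    rw [hξ, QuotientGroup.eq_one_iff, Subgroup.mem_subgroupOf] at h
    exact hxO h
  have hη1 : η ≠ 1 := by
    intro h
    rw [hη, QuotientGroup.eq_one_iff, Subgroup.mem_subgroupOf] at h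
    exact hyO h
  have hξ3 : ξ ^ 3 = 1 := by
    rw [← hcard]
    exact pow_card_eq_one'
  have hord : orderOf ξ = 3 := orderOf_eq_prime hξ3 hξ1
  obtain ⟨n, hn'⟩ := Subgroup.mem_zpowers_iff.mp (mem_zpowers_of_prime_card hcard hξ1 : η ∈ Subgroup.zpowers ξ)
  have hmod := zpow_mod_orderOf ξ n
  rw [hord, hn'] at hmod
  have h0 : 0 ≤ n % ((3 : ℕ) : ℤ) := Int.emod_nonneg _ (by norm_num)
  have h3 : n % ((3 : ℕ) : ℤ) < 3 := Int.emod_lt_of_pos _ (by norm_num)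
  obtain ⟨r, hr⟩ : ∃ r : ℤ, r = n % ((3 : ℕ) : ℤ) := ⟨_, rfl⟩
  rw [← hr] at hmod h0 h3
  interval_cases r
  · exfalso
    apply hη1
    rw [← hmod, zpow_zero]
  · left
    have h1 : η * ξ⁻¹ = 1 := by rw [← hmod, zpow_one, mul_inv_cancel]
    rw [hη, hξ, ← QuotientGroup.mk_inv, ← QuotientGroup.mk_mul, QuotientGroup.eq_one_iff,
      Subgroup.mem_subgroupOf] at h1
    exact h1
  · right
    have h1 : η * ξ = 1 := by
      rw [← hmod]
      have : ξ ^ (2 : ℤ) * ξ = ξ ^ 3 := by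
        rw [show (2 : ℤ) = ((2 : ℕ) : ℤ) from rfl, zpow_natCast, ← pow_succ]
      rw [this, hξ3]
    rw [hη, hξ, ← QuotientGroup.mk_mul, QuotientGroup.eq_one_iff, Subgroup.mem_subgroupOf] at h1
    exact h1

/-- The centralizer of `K / O` in `N(K)`, as a subgroup. -/
theorem w4_CN {G : Type u} [Group G] (K O : Subgroup G)
    (hNKO : Subgroup.normalizer (K : Set G) ≤ Subgroup.normalizer (O : Set G)) :
    ∃ CN : Subgroup G, ∀ g, g ∈ CN ↔
      (g ∈ Subgroup.normalizer (K : Set G) ∧ ∀ k ∈ K, g * k * g⁻¹ * k⁻¹ ∈ O) := by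
  refine ⟨{ carrier := {g | g ∈ Subgroup.normalizer (K : Set G) ∧
              ∀ k ∈ K, g * k * g⁻¹ * k⁻¹ ∈ O}
            one_mem' := ⟨Subgroup.one_mem _, fun k hk => by simp⟩
            mul_mem' := by
              rintro a b ⟨ha, ha'⟩ ⟨hb, hb'⟩
              refine ⟨Subgroup.mul_mem _ ha hb, fun k hk => ?_⟩
              have e : a * b * k * (a * b)⁻¹ * k⁻¹ =
                  (a * (b * k * b⁻¹ * k⁻¹) * a⁻¹) * (a * k * a⁻¹ * k⁻¹) := by group
              rw [e]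
              exact O.mul_mem ((Subgroup.mem_normalizer_iff.mp (hNKO ha) _).mp (hb' k hk))
                (ha' k hk)
            inv_mem' := by
              rintro a ⟨ha, ha'⟩
              refine ⟨Subgroup.inv_mem _ ha, fun k hk => ?_⟩
              have hk' : a⁻¹ * k * a⁻¹⁻¹ ∈ K :=
                (Subgroup.mem_normalizer_iff.mp (Subgroup.inv_mem _ ha) k).mp hk
              have h1 := ha' _ hk'
              have e : a⁻¹ * k * a⁻¹⁻¹ * k⁻¹ =
                  (a * (a⁻¹ * k * a⁻¹⁻¹) * a⁻¹ * (a⁻¹ * k * a⁻¹⁻¹)⁻¹)⁻¹ := by group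
              rw [e]
              exact O.inv_mem h1 }, fun g => Iff.rfl⟩

theorem w4 : StW4.{u} := by
  intro G _ _ T K hT hidx hOT hKJ
  haveI : Fact (Nat.Prime 2) := ⟨Nat.prime_two⟩
  haveI : Fact (Nat.Prime 3) := ⟨Nat.prime_three⟩
  have hOK : pCoreOf 2 K ≤ K := Cfsg.Agent.H31.X.H54.pCoreOf_le K
  have hKO : K ≤ Subgroup.normalizer (pCoreOf 2 K : Set G) :=
    Cfsg.Agent.H31.X.H54.le_normalizer_pCoreOf K
  have hNKO : Subgroup.normalizer (K : Set G) ≤ Subgroup.normalizer (pCoreOf 2 K : Set G) :=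
    Cfsg.Agent.H31.X.H54.normalizer_le_normalizer_pCoreOf K
  have hO2 : IsPGroup 2 ↥(pCoreOf 2 K) := Cfsg.Agent.H31.X.H54.isPGroup_pCoreOf K
  have hJK : thompsonSubgroupOf 2 T ≤ Subgroup.normalizer (K : Set G) :=
    Cfsg.Agent.H51.Jc.le_normalizer_of_comm hKJ
  -- an element of order 3
  have hcardK : Nat.card ↥K = 3 * Nat.card ↥(pCoreOf 2 K) := by
    have := Cfsg.Agent.H40.Jx.cnt_relIndex_mul_card hOK
    rw [hidx] at this
    exact this.symm
  obtain ⟨x', hx'⟩ := exists_prime_orderOf_dvd_card' (G := ↥K) 3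
    (by rw [hcardK]; exact dvd_mul_right 3 _)
  obtain ⟨x, hxdef⟩ : ∃ x : G, x = (x' : G) := ⟨_, rfl⟩
  have hxK : x ∈ K := by rw [hxdef]; exact x'.2
  have hx3 : orderOf x = 3 := by rw [hxdef, Subgroup.orderOf_coe]; exact hx'
  have hxO : x ∉ pCoreOf 2 K := by
    intro h
    obtain ⟨k, hk⟩ := hO2 ⟨x, h⟩
    have hk' : x ^ 2 ^ k = 1 := by
      have := congrArg Subtype.val hk
      simpa using this
    have hdvd := orderOf_dvd_of_pow_eq_one hk'
    rw [hx3] at hdvd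
    have := Nat.Prime.dvd_of_dvd_pow Nat.prime_three hdvd
    omega
  have hgen : K = pCoreOf 2 K ⊔ Subgroup.zpowers x := by
    have hUK : pCoreOf 2 K ⊔ Subgroup.zpowers x ≤ K := sup_le hOK (Subgroup.zpowers_le.mpr hxK)
    have h1 := Subgroup.relIndex_mul_relIndex (pCoreOf 2 K)
      (pCoreOf 2 K ⊔ Subgroup.zpowers x) K le_sup_left hUK
    rw [hidx] at h1
    have h2 : (pCoreOf 2 K).relIndex (pCoreOf 2 K ⊔ Subgroup.zpowers x) ≠ 1 := by
      intro h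
      rw [Subgroup.relIndex_eq_one] at h
      exact hxO (h ((le_sup_right : Subgroup.zpowers x ≤ pCoreOf 2 K ⊔ Subgroup.zpowers x)
        (Subgroup.mem_zpowers x)))
    have h3 : (pCoreOf 2 K ⊔ Subgroup.zpowers x).relIndex K = 1 := by
      have ha : (pCoreOf 2 K).relIndex (pCoreOf 2 K ⊔ Subgroup.zpowers x) ∣ 3 := ⟨_, h1.symm⟩
      rcases (Nat.dvd_prime Nat.prime_three).mp ha with h | h
      · exact absurd h h2
      · rw [h] at h1
        omega
    exact le_antisymm (Subgroup.relIndex_eq_one.mp h3) hUK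
  obtain ⟨CN, hCN⟩ := w4_CN K (pCoreOf 2 K) hNKO
  -- some `A ∈ 𝒜(T)` and `a ∈ A` do not centralize `K / O`
  have hex : ∃ A' ∈ maxElementaryAbelianSubgroups 2 ↥T, ∃ a' ∈ A', (a' : G) ∉ CN := by
    by_contra hcon
    push Not at hcon
    have hJCN : thompsonSubgroupOf 2 T ≤ CN := by
      unfold Cfsg.thompsonSubgroupOf Cfsg.thompsonSubgroup
      rw [Subgroup.map_le_iff_le_comap]
      apply sSup_le
      intro A' hA' a' ha'
      exact hcon A' hA' a' ha'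
    have hle : ⁅K, thompsonSubgroupOf 2 T⁆ ≤ pCoreOf 2 K := by
      rw [Subgroup.commutator_le]
      intro k hk j hj
      have h1 := ((hCN j).mp (hJCN hj)).2 k hk
      have e : ⁅k, j⁆ = (j * k * j⁻¹ * k⁻¹)⁻¹ := by
        simp only [commutatorElement_def]
        group
      rw [e]
      exact Subgroup.inv_mem _ h1
    rw [hKJ] at hle
    have h1 : (pCoreOf 2 K).relIndex K = 1 := Subgroup.relIndex_eq_one.mpr hle
    omega
  obtain ⟨A', hA', a', ha', haCN⟩ := hex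
  obtain ⟨A, hAdef⟩ : ∃ A : Subgroup G, A = A'.map T.subtype := ⟨_, rfl⟩
  obtain ⟨a, hadef⟩ : ∃ a : G, a = (a' : G) := ⟨_, rfl⟩
  rw [← hadef] at haCN
  have hAT : A ≤ T := by rw [hAdef]; exact Subgroup.map_subtype_le _
  have hAel : IsElementaryAbelian 2 A := by
    rw [hAdef]
    exact Cfsg.Agent.H14.elemAb_map' hA'.1 T.subtype
  have hAcard : Nat.card ↥A = Nat.card ↥A' := by
    rw [hAdef]
    exact Nat.card_congr
      (Subgroup.equivMapOfInjective A' T.subtype T.subtype_injective).symm.toEquiv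
  have hAmax : ∀ B : Subgroup G, B ≤ T → IsElementaryAbelian 2 B →
      Nat.card ↥B ≤ Nat.card ↥A := by
    intro B hBT hBel
    have h1 := hA'.2 (B.subgroupOf T)
      (Cfsg.Agent.H14.elemAb_comap' hBel T.subtype T.subtype_injective)
    rw [hAcard]
    calc Nat.card ↥B = Nat.card ↥(B.subgroupOf T) :=
          (Nat.card_congr (Subgroup.subgroupOfEquivOfLe hBT).toEquiv).symm
      _ ≤ _ := h1
  have hAJ : A ≤ thompsonSubgroupOf 2 T := by
    rw [hAdef]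
    unfold Cfsg.thompsonSubgroupOf Cfsg.thompsonSubgroup
    exact Subgroup.map_mono (le_sSup hA')
  have haA : a ∈ A := by rw [hAdef, hadef]; exact Subgroup.mem_map_of_mem _ ha'
  have hANK : A ≤ Subgroup.normalizer (K : Set G) := hAJ.trans hJK
  have haK : a ∈ Subgroup.normalizer (K : Set G) := hANK haA
  have haO := hNKO haK
  have hinvert : ∀ b ∈ A, b ∉ CN → b * x * b⁻¹ * x ∈ pCoreOf 2 K := by
    intro b hb hbCN
    have hbK := hANK hb
    rcases w4_cos K (pCoreOf 2 K) x b hKO hOK hidx hxK hxO (hNKO hbK) hbK with h | h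
    · exfalso
      apply hbCN
      exact (hCN _).mpr ⟨hbK, w4_cent K _ x b hKO hOK (hNKO hbK) hxK hgen h⟩
    · exact h
  have hax : a * x * a⁻¹ * x ∈ pCoreOf 2 K := hinvert a haA haCN
  have hkey : ∀ b ∈ A, b ∉ CN → a⁻¹ * b ∈ CN := by
    intro b hb hbCN
    have hbx := hinvert b hb hbCN
    have hgK : a⁻¹ * b ∈ Subgroup.normalizer (K : Set G) :=
      Subgroup.mul_mem _ (Subgroup.inv_mem _ haK) (hANK hb)
    refine (hCN _).mpr ⟨hgK, w4_cent K _ x (a⁻¹ * b) hKO hOK (hNKO hgK) hxK hgen ?_⟩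
    have e : a⁻¹ * b * x * (a⁻¹ * b)⁻¹ * x⁻¹ =
        a⁻¹ * ((b * x * b⁻¹ * x) * (a * x * a⁻¹ * x)⁻¹) * a⁻¹⁻¹ := by group
    rw [e]
    exact (Subgroup.mem_normalizer_iff.mp (Subgroup.inv_mem _ haO) _).mp
      (Subgroup.mul_mem _ hbx (Subgroup.inv_mem _ hax))
  -- the 2-group `Q' := O ⊔ (A ⊓ CN)`
  have hBK : A ⊓ CN ≤ Subgroup.normalizer (K : Set G) := fun b hb => ((hCN b).mp hb.2).1
  have hQ2 : IsPGroup 2 ↥(pCoreOf 2 K ⊔ (A ⊓ CN)) :=
    IsPGroup.to_sup_of_normal_left' hO2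
      (Cfsg.Agent.H14.elemAb_isPGroup (Cfsg.Agent.H14.elemAb_mono hAel inf_le_left))
      (hBK.trans hNKO)
  have hQT : pCoreOf 2 K ⊔ (A ⊓ CN) ≤ T := sup_le hOT (inf_le_left.trans hAT)
  have hKQ : K ≤ Subgroup.normalizer ((pCoreOf 2 K ⊔ (A ⊓ CN) : Subgroup G) : Set G) := by
    apply Cfsg.Agent.H31.X.H54.le_normalizer_of_conj_mem
    intro k hk q hq
    rw [Subgroup.sup_eq_closure] at hq ⊢
    apply Cfsg.Agent.H51.Jc.conj_mem_closure_of _ hq
    rintro z (hz | hz)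
    · apply Subgroup.subset_closure
      left
      exact (Subgroup.mem_normalizer_iff.mp (hKO hk) z).mp hz
    · have h1 := ((hCN z).mp hz.2).2 k⁻¹ (K.inv_mem hk)
      have h2 : k * (z * k⁻¹ * z⁻¹ * k⁻¹⁻¹) * k⁻¹ ∈ pCoreOf 2 K :=
        (Subgroup.mem_normalizer_iff.mp (hKO hk) _).mp h1
      have e : k * z * k⁻¹ = (k * (z * k⁻¹ * z⁻¹ * k⁻¹⁻¹) * k⁻¹) * z := by group
      rw [e]
      exact Subgroup.mul_mem _ (Subgroup.subset_closure (Or.inl h2))
        (Subgroup.subset_closure (Or.inr hz))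
  have hQK : pCoreOf 2 K ⊔ (A ⊓ CN) ≤ Subgroup.normalizer (K : Set G) :=
    sup_le (hOK.trans Subgroup.le_normalizer) hBK
  have hidxA : Nat.card ↥A ≤ 2 * Nat.card ↥(A ⊓ (pCoreOf 2 K ⊔ (A ⊓ CN))) := by
    classical
    have hBQ : A ⊓ CN ≤ A ⊓ (pCoreOf 2 K ⊔ (A ⊓ CN)) := le_inf inf_le_left le_sup_right
    let f : ↥A → ↥(A ⊓ CN) ⊕ ↥(A ⊓ CN) := fun b =>
      if h : (b : G) ∈ CN then Sum.inl ⟨b, b.2, h⟩
      else Sum.inr ⟨a⁻¹ * b, A.mul_mem (A.inv_mem haA) b.2, hkey b b.2 h⟩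
    have hf : Function.Injective f := by
      intro b c hbc
      by_cases hb : (b : G) ∈ CN <;> by_cases hc : (c : G) ∈ CN
      · simp only [f, dif_pos hb, dif_pos hc, Sum.inl.injEq] at hbc
        have h := congrArg (Subtype.val : ↥(A ⊓ CN) → G) hbc
        exact Subtype.ext h
      · simp only [f, dif_pos hb, dif_neg hc] at hbc
        exact absurd hbc (by simp)
      · simp only [f, dif_neg hb, dif_pos hc] at hbc
        exact absurd hbc (by simp)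
      · simp only [f, dif_neg hb, dif_neg hc, Sum.inr.injEq] at hbc
        have h := congrArg (Subtype.val : ↥(A ⊓ CN) → G) hbc
        exact Subtype.ext (mul_left_cancel h)
    have h1 := Nat.card_le_card_of_injective f hf
    rw [Nat.card_sum] at h1
    have h2 := Subgroup.card_le_of_le hBQ
    omega
  have hmain := Cfsg.Agent.H82.Jx.w4_of Cfsg.Agent.H36.Jx.act
    (fun hSq hFun => Cfsg.Agent.H40.Jx.cnt hSq hFun) Cfsg.Agent.H75.JxS.sq Cfsg.Agent.H53.Jx.fn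
    T (pCoreOf 2 K ⊔ (A ⊓ CN)) A K a x hQ2 hQT hKQ hQK le_sup_left hAT hAel hAmax haA haK hxK hx3
    ((le_sup_left : pCoreOf 2 K ≤ pCoreOf 2 K ⊔ (A ⊓ CN)) hax) hidxA hgen
  exact ⟨hmain.1.symm, hmain.2⟩

example : StW4.{u} := w4

end Cfsg.Agent.H40.Ts
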