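import Mathlib
import Cfsg.Agent.H77.UfDefs3

/-! S2149 piece UF-NOTPRES (helper77's project): the matrix `G0` does not preserve the list
`Yl` (it moves `(0, 1, 0)` to a vector proportional to no listed vector). -/

set_option autoImplicit false

namespace Cfsg.Agent.H40.Uf

open Matrix Cfsg.Agent.H77.Uf

/-- index form of: no listed vector is proportional to `(0, 2 + ω, 2)`. -/
def NotPresT : Prop :=
  ∀ i : Fin 105, (⟨2, 1⟩ : F25) * (Yl.getD i 0) 0 ≠ 0 ∨ (2 : F25) * (Yl.getD i 0) 0 ≠ 0 ∨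
    (⟨2, 1⟩ : F25) * (Yl.getD i 0) 2 ≠ 2 * (Yl.getD i 0) 1

instance instDecNotPresT : Decidable NotPresT := by
  unfold NotPresT; infer_instance

theorem notPres_T : NotPresT := by decide +kernel

theorem notPres_len : Yl.length = 105 := by decide +kernel

theorem notPres_mem : (![0, 1, 0] : Fin 3 → F25) = Yl.getD 1 0 := by decide +kernel

theorem notPres_val : G0 *ᵥ ![0, 1, 0] = ![0, ⟨2, 1⟩, 2] := by decide +kernel

theorem notPres : StNotPres := by
  intro h
  have hmem : (![0, 1, 0] : Fin 3 → F25) ∈ Yl := by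
    rw [notPres_mem, List.getD_eq_getElem _ _ (by rw [notPres_len]; norm_num)]
    exact List.getElem_mem _
  obtain ⟨w, hw, c, hc⟩ := h _ hmem
  rw [notPres_val] at hc
  have h0 : (0 : F25) = c * w 0 := by
    have := congrFun hc 0
    simpa using this
  have h1 : (⟨2, 1⟩ : F25) = c * w 1 := by
    have := congrFun hc 1
    simpa using this
  have h2 : (2 : F25) = c * w 2 := by
    have := congrFun hc 2
    simpa using this
  have hcross : (⟨2, 1⟩ : F25) * w 0 ≠ 0 ∨ (2 : F25) * w 0 ≠ 0 ∨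
      (⟨2, 1⟩ : F25) * w 2 ≠ 2 * w 1 := by
    obtain ⟨i, hi, hiw⟩ := List.mem_iff_getElem.mp hw
    have hi' : i < 105 := by rw [← notPres_len]; exact hi
    have hT := notPres_T ⟨i, hi'⟩
    have e : Yl.getD i 0 = w := by
      rw [List.getD_eq_getElem _ _ hi]
      exact hiw
    have hT' : (⟨2, 1⟩ : F25) * (Yl.getD i 0) 0 ≠ 0 ∨ (2 : F25) * (Yl.getD i 0) 0 ≠ 0 ∨
        (⟨2, 1⟩ : F25) * (Yl.getD i 0) 2 ≠ 2 * (Yl.getD i 0) 1 := hT
    rw [e] at hT'
    exact hT'
  rcases hcross with hh | hh | hh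
  · apply hh
    calc (⟨2, 1⟩ : F25) * w 0 = c * w 1 * w 0 := by rw [← h1]
      _ = w 1 * (c * w 0) := by ring
      _ = 0 := by rw [← h0, mul_zero]
  · apply hh
    calc (2 : F25) * w 0 = c * w 2 * w 0 := by rw [← h2]
      _ = w 2 * (c * w 0) := by ring
      _ = 0 := by rw [← h0, mul_zero]
  · apply hh
    calc (⟨2, 1⟩ : F25) * w 2 = c * w 1 * w 2 := by rw [← h1]
      _ = c * w 2 * w 1 := by ring
      _ = 2 * w 1 := by rw [← h2]

example : StNotPres := notPres

end Cfsg.Agent.H40.Uf
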